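import Groth.Agent.EGA2.K43.VADef
import Groth.Agent.Ega2.TensPow
import Groth.Agent.Ega2.TensGen
import Groth.Agent.Ega2.IdealAmple

/-!
# Operations on the section-level condition for relative very ampleness: tensor products

* `nv_tmul`: nonvanishing locus of a tensor product of sections;
* `tensHom φ φ'` : `E ⊗ E' ⟶ q_* (L ⊗ L')` attached to `φ : E ⟶ q_* L` and `φ' : E' ⟶ q_* L'`;
* `Gn q φ`: the sections coming from `φ` generate `L` (everywhere on `X`); `gn_of_epi`: true when `q^* E ⟶ L` is epi;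
* `VA.tens`: `VA q φ` and `Gn q φ'` imply `VA q (tensHom φ φ')`.
-/

set_option autoImplicit false
universe u
open CategoryTheory CategoryTheory.Limits AlgebraicGeometry TopologicalSpace Opposite

namespace K42.VATens

open Groth.Agent.Fdesc.LocGen Groth.Agent.Ega2.Nv K43.HomImm K43.VADef Groth.Agent.Ega2
open Groth.Agent.Fdesc.Skyscraper Groth.Agent.Ega1.GlobGenPt

theorem nv_tmul {X : Scheme.{u}} {L L' : X.Modules} {U : X.Opens} (hL : LocGen L U) (hL' : LocGen L' U) (s : Γ(L, U)) (t : Γ(L', U)) :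
    nv (CohB1.tensorMod L L') (tmul s t) = nv L s ⊓ nv L' t := by
  apply le_antisymm
  · intro x hx
    have hxU : x ∈ U := nv_le _ _ hx
    obtain ⟨V, e, hxV, hVU, he⟩ := hL x hxU
    obtain ⟨V', e', hxV', hVU', he'⟩ := hL' x hxU
    have he1 := he.res (inf_le_left : V ⊓ V' ≤ V)
    have he1' := he'.res (inf_le_right : V ⊓ V' ≤ V')
    have hWU : V ⊓ V' ≤ U := inf_le_left.trans hVU
    obtain ⟨a, ha⟩ := he1.exists_eq (res L hWU s)
    obtain ⟨b, hb⟩ := he1'.exists_eq (res L' hWU t)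
    have h1 : res (CohB1.tensorMod L L') hWU (tmul s t) = (a * b) • tmul (res L inf_le_left e) (res L' inf_le_right e') := by
      rw [res_tmul, ha, hb, smul_tmul, tmul_smul, ← mul_smul]
    have h2 := nv_inf_of_eq_smul (tmul s t) hWU (he1.tmul he1') (a * b) h1
    have h3 := nv_inf_of_eq_smul s hWU he1 a ha
    have h4 := nv_inf_of_eq_smul t hWU he1' b hb
    have h5 : x ∈ X.basicOpen (a * b) := by rw [← h2]; exact ⟨⟨hxV, hxV'⟩, hx⟩
    rw [X.basicOpen_mul] at h5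
    have h6 : x ∈ (V ⊓ V') ⊓ nv L s := by rw [h3]; exact h5.1
    have h7 : x ∈ (V ⊓ V') ⊓ nv L' t := by rw [h4]; exact h5.2
    exact ⟨h6.2, h7.2⟩
  · rw [le_nv_iff _ _ (inf_le_left.trans (nv_le _ _)), res_tmul]
    refine IsGen.tmul ?_ ?_
    · rw [← le_nv_iff]; exact inf_le_left
    · rw [← le_nv_iff]; exact inf_le_right

theorem locGen_of_isInvertible {X : Scheme.{u}} {L : X.Modules} (hL : PicF.IsInvertible L) (U : X.Opens) : LocGen L U := by
  intro x hx
  obtain ⟨V, e, hxV, he⟩ := (isInvertible_iff L).mp hL x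
  exact ⟨U ⊓ V, res L inf_le_right e, ⟨hx, hxV⟩, inf_le_left, he.res _⟩

variable {X Y : Scheme.{u}} (q : X ⟶ Y) {L L' : X.Modules} {E E' : Y.Modules}
  (φ : E ⟶ (Scheme.Modules.pushforward q).obj L) (φ' : E' ⟶ (Scheme.Modules.pushforward q).obj L')

/-- The bilinear pairing `(e, e') ↦ φ e ⊗ φ' e'`. -/
noncomputable def bil (U : Y.Opens) : Γ(E, U) →ₗ[Γ(Y, U)] Γ(E', U) →ₗ[Γ(Y, U)]
    Γ((Scheme.Modules.pushforward q).obj (CohB1.tensorMod L L'), U) :=
  LinearMap.mk₂ Γ(Y, U) (fun e e' => (tmul (se q φ e) (se q φ' e') : Γ(CohB1.tensorMod L L', q ⁻¹ᵁ U)))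
    (fun e₁ e₂ e' => by
      change tmul (se q φ (e₁ + e₂)) (se q φ' e') = _
      rw [se_add, add_tmul]; rfl)
    (fun a e e' => by
      change tmul (se q φ (a • e)) (se q φ' e') = (q.app U a : Γ(X, q ⁻¹ᵁ U)) • tmul (se q φ e) (se q φ' e')
      rw [se_smul, smul_tmul])
    (fun e e₁ e₂ => by
      change tmul (se q φ e) (se q φ' (e₁ + e₂)) = _
      rw [se_add, tmul_add]; rfl)
    (fun a e e' => by
      change tmul (se q φ e) (se q φ' (a • e')) = (q.app U a : Γ(X, q ⁻¹ᵁ U)) • tmul (se q φ e) (se q φ' e')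
      rw [se_smul, tmul_smul])

/-- `E ⊗ E' ⟶ q_* (L ⊗ L')`. -/
noncomputable def tensHom : CohB1.tensorMod E E' ⟶ (Scheme.Modules.pushforward q).obj (CohB1.tensorMod L L') :=
  Tens.lift (bil q φ φ') (fun U V i e e' => by
    change res (CohB1.tensorMod L L') (q.preimage_mono (leOfHom i)) (tmul (se q φ e) (se q φ' e')) = _
    rw [res_tmul, res_se, res_se]
    rfl)

theorem se_tens {U : Y.Opens} (e : Γ(E, U)) (e' : Γ(E', U)) :
    se q (tensHom q φ φ') (tmul e e') = tmul (se q φ e) (se q φ' e') :=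
  Tens.lift_tmul _ _ _ _ _

/-- The sections coming from `φ` generate `L` everywhere. -/
def Gn : Prop := ∀ x : X, ∃ (U : Y.Opens) (e : Γ(E, U)), x ∈ nz q φ e

variable {q φ φ'}

/-- Shrinking the open in `Gn`. -/
theorem Gn.exists_le (h : Gn q φ) (x : X) (V : Y.Opens) (hx : x ∈ q ⁻¹ᵁ V) :
    ∃ (U : Y.Opens) (_ : IsAffineOpen U) (_ : U ≤ V) (e : Γ(E, U)), x ∈ nz q φ e := by
  obtain ⟨W, e, hxe⟩ := h x
  obtain ⟨U, hU, hxU, hle⟩ := exists_isAffineOpen_mem_and_subset (x := q x) (U := V ⊓ W) ⟨hx, nz_le q φ e hxe⟩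
  refine ⟨U, hU, fun y hy => (hle hy).1, res E (fun y hy => (hle hy).2) e, ?_⟩
  rw [nz_res]
  exact ⟨hxU, hxe⟩

theorem _root_.K43.VADef.VA.gn (h : VA q φ) : Gn q φ := fun x => by
  obtain ⟨U, hU, hxU, -⟩ := exists_isAffineOpen_mem_and_subset (x := q x) (U := ⊤) trivial
  obtain ⟨e, hxe, -⟩ := h U hU x hxU
  exact ⟨U, e, hxe⟩

/-- Ratios for the tensor product, left factor. -/
theorem ores_mem_ratioRing_tens_left {U : Y.Opens} (e : Γ(E, U)) (e' : Γ(E', U))
    (h : nz q (tensHom q φ φ') (tmul e e') ≤ nz q φ e) {b : Γ(X, nz q φ e)} (hb : b ∈ ratioRing q φ e) :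
    ores h b ∈ ratioRing q (tensHom q φ φ') (tmul e e') := by
  refine ores_mem_of_closure h _ _ ?_ hb
  rintro b (⟨a, rfl⟩ | ⟨t, ht⟩)
  · dsimp only
    rw [ores_ores]
    exact app_mem_ratioRing q _ _ a
  · refine ratio_mem_ratioRing q _ _ (tmul t e') ?_
    have h1 := congrArg (res L h) ht
    rw [res_smul, res_res, res_res] at h1
    rw [se_tens, se_tens, res_tmul, res_tmul, h1, smul_tmul]

/-- **Tensor products**: `VA` for `φ` and generation for `φ'` give `VA` for `φ ⊗ φ'`. -/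
theorem _root_.K43.VADef.VA.tens (hL : PicF.IsInvertible L) (hL' : PicF.IsInvertible L')
    (hE : Coh.IsQCoh (CohB1.tensorMod E E')) (h : VA q φ) (h' : Gn q φ') : VA q (tensHom q φ φ') := by
  refine va_of_cover hE fun x => ?_
  obtain ⟨U, hU, -, e', hxe'⟩ := h'.exists_le x ⊤ trivial
  obtain ⟨e, hxe, he⟩ := h U hU x (nz_le _ _ _ hxe')
  have hnz : nz q (tensHom q φ φ') (tmul e e') = nz q φ e ⊓ nz q φ' e' := by
    rw [nz, se_tens, nv_tmul (locGen_of_isInvertible hL _) (locGen_of_isInvertible hL' _)]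
    rfl
  have hle : nz q (tensHom q φ φ') (tmul e e') ≤ nz q φ e := hnz.le.trans inf_le_left
  refine ⟨U, hU, nz_le _ _ _ hxe', tmul e e', by rw [hnz]; exact ⟨hxe, hxe'⟩, (he.res hle).mono ?_⟩
  rintro _ ⟨b, hb, rfl⟩
  exact ores_mem_ratioRing_tens_left e e' hle hb

/-- If `q^* E ⟶ L` is an epimorphism then the sections coming from `E` generate `L`. -/
theorem gn_of_epi (hL : PicF.IsInvertible L) (s : (Scheme.Modules.pullback q).obj E ⟶ L) [Epi s] :
    Gn q ((Scheme.Modules.pullbackPushforwardAdjunction q).homEquiv E L s) := by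
  intro x
  by_contra hcon
  push Not at hcon
  obtain ⟨W, ε, hxW, hε⟩ := (isInvertible_iff L).mp hL x
  set φ := (Scheme.Modules.pullbackPushforwardAdjunction q).homEquiv E L s with hφ
  have key : ∀ (U : Y.Opens) (e : Γ(E, U)) (hx : x ∈ q ⁻¹ᵁ U), L.presheaf.germ (q ⁻¹ᵁ U) x hx (se q φ e) ∈
      (IsLocalRing.maximalIdeal (X.presheaf.stalk x) •
        (⊤ : Submodule (X.presheaf.stalk x) (L.presheaf.stalk x))) := by
    intro U e hx
    have hε' := hε.res (inf_le_right : q ⁻¹ᵁ U ⊓ W ≤ W)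
    obtain ⟨a, ha⟩ := hε'.exists_eq (res L (inf_le_left : q ⁻¹ᵁ U ⊓ W ≤ q ⁻¹ᵁ U) (se q φ e))
    have h1 := nv_inf_of_eq_smul (se q φ e) inf_le_left hε' a ha
    have hx' : x ∈ q ⁻¹ᵁ U ⊓ W := ⟨hx, hxW⟩
    have h2 : x ∉ X.basicOpen a := by
      rw [← h1]
      exact fun h => hcon U e h.2
    rw [Scheme.mem_basicOpen X _ x hx'] at h2
    have h3 : L.presheaf.germ (q ⁻¹ᵁ U) x hx (se q φ e) = L.presheaf.germ (q ⁻¹ᵁ U ⊓ W) x hx'
        (res L inf_le_left (se q φ e)) := (germ_res L inf_le_left x hx' _).symm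
    rw [h3, ha, germ_smul]
    exact Submodule.smul_mem_smul ((IsLocalRing.mem_maximalIdeal _).2 h2) Submodule.mem_top
  let Q := L.presheaf.stalk x ⧸ (IsLocalRing.maximalIdeal (X.presheaf.stalk x) •
        (⊤ : Submodule (X.presheaf.stalk x) (L.presheaf.stalk x)))
  let π : L.presheaf.stalk x →ₗ[X.presheaf.stalk x] Q := Submodule.mkQ _
  let ψ : L ⟶ sky x Q := toSky π
  have h0 : s ≫ ψ = s ≫ 0 := by
    apply ((Scheme.Modules.pullbackPushforwardAdjunction q).homEquiv E _).injective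
    rw [Adjunction.homEquiv_naturality_right, Adjunction.homEquiv_naturality_right]
    ext U e
    change ψ.app (q ⁻¹ᵁ U) (se q φ e) = (0 : Γ(sky x Q, q ⁻¹ᵁ U))
    refine (funext fun h => ?_ : (_ : Sec x Q (q ⁻¹ᵁ U)) = _)
    refine (toSky_app_apply π (q ⁻¹ᵁ U) _ h).trans ?_
    exact (Submodule.Quotient.mk_eq_zero _).2 (key U e h.down)
  have h1 : ψ = 0 := (cancel_epi s).1 h0
  have h2 : π = 0 := by
    rw [← ofSky_toSky π]
    change ofSky ψ = 0
    rw [h1]
    ext t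
    obtain ⟨V, hV, s, rfl⟩ := TopCat.Presheaf.exists_germ_eq L.presheaf t
    rw [ofSky_germ]
    rfl
  have h3 : π (L.presheaf.germ W x hxW ε) = 0 := by rw [h2]; rfl
  exact germ_notMem_smul_top hε x hxW ((Submodule.Quotient.mk_eq_zero _).1 h3)

end K42.VATens
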