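import Groth.Agent.EGA2.K42.VALoc
import Groth.Agent.Fdesc.LocGenPullback
import Mathlib.AlgebraicGeometry.Modules.Sheaf

/-!
# The section-level condition for relative very ampleness: isomorphisms, the identity morphism

`nv_app_iso`, `VA.comp_iso`, `idHom L : L ⟶ (𝟙 Y)_* L`, `va_idHom`.
-/

set_option autoImplicit false
universe u
open CategoryTheory CategoryTheory.Limits AlgebraicGeometry TopologicalSpace Opposite

namespace K42.VAMisc

open Groth.Agent.Fdesc.LocGen Groth.Agent.Ega2.Nv K43.HomImm K43.VADef Groth.Agent.Ega2 K42.HImmBC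

variable {X Y : Scheme.{u}}

theorem nv_app_iso {L L' : X.Modules} (i : L ⟶ L') [IsIso i] {U : X.Opens} (s : Γ(L, U)) :
    nv L' (i.app U s) = nv L s := by
  apply le_antisymm
  · rw [le_nv_iff L s (nv_le _ _), ← isGen_app_iff i, app_res]
    exact isGen_nv _ _
  · rw [le_nv_iff L' _ (nv_le _ _), ← app_res, isGen_app_iff]
    exact isGen_nv _ _

theorem se_comp_map {q : X ⟶ Y} {L L' : X.Modules} {E : Y.Modules} (φ : E ⟶ (Scheme.Modules.pushforward q).obj L)
    (i : L ⟶ L') {U : Y.Opens} (e : Γ(E, U)) :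
    se q (φ ≫ (Scheme.Modules.pushforward q).map i) e = i.app (q ⁻¹ᵁ U) (se q φ e) := rfl

/-- Invariance under isomorphisms of `L`. -/
theorem _root_.K43.VADef.VA.comp_iso {q : X ⟶ Y} {L L' : X.Modules} {E : Y.Modules}
    {φ : E ⟶ (Scheme.Modules.pushforward q).obj L} (h : VA q φ) (i : L ⟶ L') [IsIso i] :
    VA q (φ ≫ (Scheme.Modules.pushforward q).map i) := by
  intro U hU x hx
  obtain ⟨e, hxe, he⟩ := h U hU x hx
  have hnz : nz q (φ ≫ (Scheme.Modules.pushforward q).map i) e = nz q φ e := by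
    rw [nz, se_comp_map, nv_app_iso]; rfl
  refine ⟨e, by rw [hnz]; exact hxe, himm_congr hnz _ _ (fun b hb => ?_) he⟩
  refine ores_mem_of_closure hnz.le _ _ ?_ hb
  rintro b (⟨a, rfl⟩ | ⟨t, ht⟩)
  · dsimp only
    rw [ores_ores]
    exact app_mem_ratioRing q _ e a
  · refine ratio_mem_ratioRing q _ e t ?_
    have h1 := congrArg (fun z => i.app _ (res L hnz.le z)) ht
    simp only [res_smul, res_res, Scheme.Modules.Hom.app_smul] at h1
    rw [se_comp_map, se_comp_map, ← app_res, ← app_res]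
    exact h1

/-- Precomposition with an isomorphism of `E` (or any morphism surjective on sections over affine opens). -/
theorem _root_.K43.VADef.VA.iso_comp {q : X ⟶ Y} {L : X.Modules} {E E' : Y.Modules}
    {φ : E ⟶ (Scheme.Modules.pushforward q).obj L} (h : VA q φ) (i : E' ⟶ E)
    (hi : ∀ U : Y.Opens, IsAffineOpen U → Function.Surjective (i.app U)) : VA q (i ≫ φ) := by
  intro U hU x hx
  choose c hc using hi U hU
  refine VALoc.At.of_sections (φ := φ) c (fun e => ?_) (h U hU x hx)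
  change φ.app U (i.app U (c e)) = φ.app U e
  rw [hc]

/-- The canonical morphism `L ⟶ (𝟙 Y)_* L`. -/
noncomputable def idHom (L : Y.Modules) : L ⟶ (Scheme.Modules.pushforward (𝟙 Y)).obj L :=
  mkHom (N := (Scheme.Modules.pushforward (𝟙 Y)).obj L)
    (fun U => (res L (Scheme.Hom.id_preimage U).le : Γ(L, U) →+ Γ(L, (𝟙 Y : Y ⟶ Y) ⁻¹ᵁ U)))
    (fun U a m => by
      have h : ((𝟙 Y : Y ⟶ Y).app U a : Γ(Y, (𝟙 Y : Y ⟶ Y) ⁻¹ᵁ U)) = ores (Scheme.Hom.id_preimage U).le a := by
        rw [Scheme.Hom.id_app]; exact (ores_refl a).symm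
      have h2 := res_smul L (Scheme.Hom.id_preimage U).le a m
      rw [← h] at h2
      exact h2)
    (fun U V h m => by
      have h1 := res_res L h (Scheme.Hom.id_preimage V).le m
      have h2 := res_res L (Scheme.Hom.id_preimage U).le ((𝟙 Y : Y ⟶ Y).preimage_mono h) m
      exact h1.trans h2.symm)

theorem se_idHom {L : Y.Modules} {U : Y.Opens} (e : Γ(L, U)) :
    se (𝟙 Y) (idHom L) e = res L (Scheme.Hom.id_preimage U).le e := rfl

/-- An invertible module satisfies the condition relative to the identity. -/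
theorem va_idHom {L : Y.Modules} (hL : PicF.IsInvertible L) (hq : Coh.IsQCoh L) : VA (𝟙 Y) (idHom L) := by
  refine va_of_cover hq fun x => ?_
  obtain ⟨W, e, hxW, he⟩ := (isInvertible_iff L).mp hL x
  obtain ⟨V, hV, hxV, hle⟩ := exists_isAffineOpen_mem_and_subset (x := x) (U := W) hxW
  have hVW : V ≤ W := hle
  have hid : (𝟙 Y : Y ⟶ Y) ⁻¹ᵁ V = V := Scheme.Hom.id_preimage V
  have hnz : nz (𝟙 Y) (idHom L) (res L hVW e) = V := by
    rw [nz, se_idHom, res_res, nv_res]
    have : V ≤ nv L e := (le_nv_iff L e hVW).2 (he.res hVW)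
    rw [hid]
    exact inf_eq_left.mpr this
  refine ⟨V, hV, hxV, res L hVW e, by rw [hnz]; exact hxV, himm_congr hnz ⊤ _ ?_ (HImm.of_affine hV)⟩
  intro b _
  have h1 : ores hnz.le b = ores (nz_le (𝟙 Y) (idHom L) (res L hVW e)) ((𝟙 Y : Y ⟶ Y).app V b) := by
    have h : ((𝟙 Y : Y ⟶ Y).app V b : Γ(Y, (𝟙 Y : Y ⟶ Y) ⁻¹ᵁ V)) = ores (Scheme.Hom.id_preimage V).le b := by
      rw [Scheme.Hom.id_app]; exact (ores_refl b).symm
    rw [h]
    exact (ores_ores _ _ _).symm
  rw [h1]
  exact app_mem_ratioRing (𝟙 Y) (idHom L) _ b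

end K42.VAMisc
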