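import Groth.Agent.Ega2.Extend
import Groth.Agent.Ega2.Nv

/-!
# Extending sections over `X_s`, for a section `s` over an open

`F` quasi-coherent, `L` invertible, `s` a section of `L` over a quasi-compact open `W`.
* `exists_tmul_pow_eq_zero`: a section of `F` over `W` vanishing on `nv L s` is killed by `⊗ s^n`, `n` large.
* `exists_extend`: (`W` also quasi-separated) for `t ∈ Γ(F, nv L s)`, `t ⊗ s^n` extends to `Γ(F ⊗ L^n, W)`.
-/

set_option autoImplicit false
universe u
open CategoryTheory CategoryTheory.Limits AlgebraicGeometry Opposite TopologicalSpace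
open Groth.Agent.Fdesc.LocGen Groth.Agent

namespace K42.ExtSec

open Groth.Agent.Ega2 Groth.Agent.Ega2.TensGen Groth.Agent.Ega2.TensPow Groth.Agent.Ega2.Nv Groth.Agent.Ega2.Extend

variable {X : Scheme.{u}} {F L : X.Modules}

open Ega1.QCohLoc (isLocAt_of_isQCoh pow_smul_eq_zero_of_le) in
theorem exists_tmul_pow_eq_zero (hF : Coh.IsQCoh F) (hL : PicF.IsInvertible L)
    {W : X.Opens} (hW : IsCompact (W : Set X)) (s : Γ(L, W)) (t : Γ(F, W))
    (ht : Fdesc.LocGen.res F (nv_le L s) t = 0) :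
    ∃ n : ℕ, ∀ m, n ≤ m → tmul t (pow s m) = 0 := by
  obtain ⟨ι, _, U, e, hUW, hc, hU, he⟩ := exists_finite_cover hL W hW
  cases nonempty_fintype ι
  have key : ∀ i, ∃ n : ℕ, ∀ m, n ≤ m →
      Fdesc.LocGen.res _ (hUW i) (tmul t (pow s m)) = 0 := by
    intro i
    obtain ⟨a, ha⟩ := (he i).exists_eq (Fdesc.LocGen.res L (hUW i) s)
    have hloc := nv_inf_of_eq_smul s (hUW i) (he i) a ha
    have hle : X.basicOpen a ≤ nv L s := by
      rw [← hloc]
      exact inf_le_right
    obtain ⟨n, hn⟩ := (isLocAt_of_isQCoh hF (hU i) a).inj (Fdesc.LocGen.res F (hUW i) t) (by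
      change Fdesc.LocGen.res F _ (Fdesc.LocGen.res F (hUW i) t) = 0
      have h1 := congrArg (Fdesc.LocGen.res F hle) ht
      rw [Fdesc.LocGen.res_res, map_zero] at h1
      rw [Fdesc.LocGen.res_res]
      exact h1)
    refine ⟨n, fun m hm => ?_⟩
    rw [res_tmul, res_pow, ha, tmul_smul_pow]
    have h2 : a ^ m • Fdesc.LocGen.res F (hUW i) t = 0 := pow_smul_eq_zero_of_le F hm hn
    rw [h2, zero_tmul]
  choose n hn using key
  refine ⟨Finset.univ.sup n, fun m hm => ?_⟩
  refine res_ext _ U hUW hc fun i => ?_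
  rw [hn i m ((Finset.le_sup (Finset.mem_univ i)).trans hm), map_zero]

/-- `t ⊗ s^n` extends implies `t ⊗ s^m` extends for `m ≥ n`. -/
theorem extend_mono {W : X.Opens} (s : Γ(L, W)) {W' : X.Opens} (hW' : W' ≤ W)
    (t : Γ(F, W')) {n m : ℕ} (hnm : n ≤ m) (t' : Γ(CohB1.tensorMod F (CohB1.tensorPow L n), W))
    (ht' : res _ hW' t' = tmul t (pow (res L hW' s) n)) :
    ∃ t'' : Γ(CohB1.tensorMod F (CohB1.tensorPow L m), W),
      res _ hW' t'' = tmul t (pow (res L hW' s) m) := by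
  obtain ⟨k, rfl⟩ := Nat.exists_eq_add_of_le hnm
  refine ⟨(tensPowAdd F L n k).hom.app W (tmul t' (pow s k)), ?_⟩
  rw [← app_res, res_tmul, ht', res_pow, tensPowAdd_tmul]

open Ega1.QCohLoc (isLocAt_of_isQCoh pow_smul_eq_zero_of_le) in
theorem exists_extend (hF : Coh.IsQCoh F) (hL : PicF.IsInvertible L)
    {W : X.Opens} (hW : IsCompact (W : Set X))
    (hW' : IsQuasiSeparated (W : Set X)) (s : Γ(L, W)) (t : Γ(F, nv L s)) :
    ∃ n : ℕ, ∀ m, n ≤ m → ∃ t' : Γ(CohB1.tensorMod F (CohB1.tensorPow L m), W),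
      Fdesc.LocGen.res _ (nv_le L s) t' =
        tmul t (pow (res L (nv_le L s) s) m) := by
  obtain ⟨ι, _, U, e, hUW, hc, hU, he⟩ := exists_finite_cover hL W hW
  cases nonempty_fintype ι
  choose a ha using fun i => (he i).exists_eq (res L (hUW i) s)
  have hloc : ∀ i, U i ⊓ nv L s = X.basicOpen (a i) := fun i => nv_inf_of_eq_smul s (hUW i) (he i) (a i) (ha i)
  have hle : ∀ i, X.basicOpen (a i) ≤ nv L s := by
    intro i
    rw [← hloc i]
    exact inf_le_right
  -- local extensions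
  have key : ∀ i, ∃ (n : ℕ) (t' : Γ(F, U i)),
      Fdesc.LocGen.res F (X.basicOpen_le (a i)) t' =
        ores (X.basicOpen_le (a i)) (a i) ^ n • Fdesc.LocGen.res F (hle i) t := fun i => by
    obtain ⟨n, t', ht'⟩ := (isLocAt_of_isQCoh hF (hU i) (a i)).surj (Fdesc.LocGen.res F (hle i) t)
    exact ⟨n, t', ht'⟩
  choose n t₁ ht₁ using key
  let N := Finset.univ.sup n
  have hN (i) : N = (N - n i) + n i :=
    (Nat.sub_add_cancel (Finset.le_sup (f := n) (Finset.mem_univ i))).symm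
  have hs : ∀ (i) , res L ((hle i).trans (nv_le L s)) s = ores (X.basicOpen_le (a i)) (a i) •
        Fdesc.LocGen.res L (X.basicOpen_le (a i)) (e i) := by
    intro i
    rw [← Fdesc.LocGen.res_smul, ← ha i, res_res]
  obtain ⟨u, hu⟩ : ∃ u : ∀ i, Γ(CohB1.tensorMod F (CohB1.tensorPow L N), U i),
      ∀ i, Fdesc.LocGen.res _ (X.basicOpen_le (a i)) (u i) =
      tmul (Fdesc.LocGen.res F (hle i) t) (pow (res L ((hle i).trans (nv_le L s)) s) N) := by
    refine ⟨fun i => tmul (a i ^ (N - n i) • t₁ i) (pow (e i) N), fun i => ?_⟩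
    rw [hs i, tmul_smul_pow, res_tmul, res_pow, Fdesc.LocGen.res_smul, ht₁, smul_smul, map_pow,
      ← pow_add, ← hN i]
  -- the differences on the overlaps
  have hLN : PicF.IsInvertible (CohB1.tensorPow L N) := isInvertible_tensorPow hL N
  have hFN : Coh.IsQCoh (CohB1.tensorMod F (CohB1.tensorPow L N)) := isQCoh_tensor hF hLN
  have key2 (i j : ι) : ∃ n : ℕ, ∀ m, n ≤ m →
      tmul (Fdesc.LocGen.res _ (inf_le_left : U i ⊓ U j ≤ U i) (u i) -
        Fdesc.LocGen.res _ (inf_le_right : U i ⊓ U j ≤ U j) (u j))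
          (pow (res L (inf_le_left.trans (hUW i)) s) m) = 0 := by
    have hcp : IsCompact ((U i ⊓ U j : X.Opens) : Set X) :=
      hW' _ _ (hUW i) (U i).2 (hU i).isCompact (hUW j) (U j).2 (hU j).isCompact
    refine exists_tmul_pow_eq_zero hFN hL hcp _ _ ?_
    have hnv : nv L (res L (inf_le_left.trans (hUW i) : U i ⊓ U j ≤ W) s) = (U i ⊓ U j) ⊓ nv L s := nv_res L s _
    have hi : nv L (res L (inf_le_left.trans (hUW i) : U i ⊓ U j ≤ W) s) ≤ X.basicOpen (a i) := by
      rw [← hloc i, hnv]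
      exact inf_le_inf_right _ inf_le_left
    have hj : nv L (res L (inf_le_left.trans (hUW i) : U i ⊓ U j ≤ W) s) ≤ X.basicOpen (a j) := by
      rw [← hloc j, hnv]
      exact inf_le_inf_right _ inf_le_right
    have hi' := congrArg (Fdesc.LocGen.res _ hi) (hu i)
    have hj' := congrArg (Fdesc.LocGen.res _ hj) (hu j)
    rw [Fdesc.LocGen.res_res, res_tmul, res_pow, Fdesc.LocGen.res_res, res_res] at hi' hj'
    rw [map_sub, Fdesc.LocGen.res_res, Fdesc.LocGen.res_res, hi', hj', sub_self]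
  choose m hm using key2
  let K := Finset.univ.sup (fun i => Finset.univ.sup (m i))
  have hK (i j) : m i j ≤ K :=
    (Finset.le_sup (f := m i) (Finset.mem_univ j)).trans
      (Finset.le_sup (f := fun i => Finset.univ.sup (m i)) (Finset.mem_univ i))
  obtain ⟨r, hr⟩ := res_glue (CohB1.tensorMod (CohB1.tensorMod F (CohB1.tensorPow L N))
      (CohB1.tensorPow L K)) U hUW hc (fun i => tmul (u i) (pow (res L (hUW i) s) K)) (fun i j => by
    have := hm i j K (hK i j)
    rw [sub_tmul, sub_eq_zero] at this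
    rw [res_tmul, res_tmul, res_pow, res_pow, res_res, res_res]
    exact this)
  refine ⟨N + K, fun k hk => ?_⟩
  refine extend_mono s (nv_le L s) t hk ((tensPowAdd F L N K).hom.app W r) ?_
  rw [← app_res]
  refine res_ext _ (fun i => X.basicOpen (a i)) hle ?_ fun i => ?_
  · calc nv L s = W ⊓ nv L s := (inf_eq_right.2 (nv_le L s)).symm
      _ ≤ (⨆ i, U i) ⊓ nv L s := inf_le_inf_right _ hc
      _ = ⨆ i, (U i ⊓ nv L s) := iSup_inf_eq _ _
      _ ≤ _ := iSup_mono fun i => (hloc i).le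
  · have e1 := congrArg (Fdesc.LocGen.res _ (X.basicOpen_le (a i))) (hr i)
    rw [Fdesc.LocGen.res_res, res_tmul, res_pow, res_res, hu i] at e1
    rw [← app_res, Fdesc.LocGen.res_res, e1, tensPowAdd_tmul, res_tmul, res_pow, res_res]

end K42.ExtSec
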