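import Groth.Agent.EGA2.K42.VecImm
import Groth.Agent.EGA2.K42.ExtSec
import Groth.Agent.EGA2.K42.VAMisc
import Groth.Agent.Ega2.QCohLocal

/-!
# Consequences of the section-level condition for relative very ampleness

* `exists_affine_nv`: over an affine open of the base, `L` is ample (sections of powers with affine nonvanishing loci).
* `exists_finite_ratios`: for morphisms locally of finite type, finitely many ratios are enough.
-/

set_option autoImplicit false
universe u
open CategoryTheory CategoryTheory.Limits AlgebraicGeometry TopologicalSpace Opposite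

namespace K42.VAComp

open Groth.Agent.Fdesc.LocGen Groth.Agent.Ega2.Nv K43.HomImm K43.VADef Groth.Agent.Ega2 K42.HImmBC

variable {X Y : Scheme.{u}}

/-- `g • s^n` extends to a section of `L^n` over the quasi-compact quasi-separated open `W`, for `g` a function on `nv s`. -/
theorem exists_extend_fun {L : X.Modules} (hL : PicF.IsInvertible L) {W : X.Opens} (hW : IsCompact (W : Set X))
    (hW' : IsQuasiSeparated (W : Set X)) (s : Γ(L, W)) (g : Γ(X, nv L s)) :
    ∃ n : ℕ, ∀ m, n ≤ m → ∃ t' : Γ(CohB1.tensorPow L m, W),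
      res _ (nv_le L s) t' = g • pow (res L (nv_le L s) s) m := by
  obtain ⟨n, hn⟩ := ExtSec.exists_extend (QCohLocal.isQCoh_structureModule X) hL hW hW' s (ofFun g)
  refine ⟨n, fun m hm => ?_⟩
  obtain ⟨t', ht'⟩ := hn m hm
  refine ⟨(Tens.lunit _).hom.app W t', ?_⟩
  rw [← app_res, ht']
  exact Tens.lunit_hom_tmul g _

/-- Sections of powers of `L` with affine nonvanishing loci. -/
theorem exists_affine_nv {q : X ⟶ Y} {L : X.Modules} (hL : PicF.IsInvertible L) {E : Y.Modules}
    {φ : E ⟶ (Scheme.Modules.pushforward q).obj L} (h : VA q φ) {U : Y.Opens} (hU : IsAffineOpen U)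
    (hc : IsCompact ((q ⁻¹ᵁ U : X.Opens) : Set X)) (hs : IsQuasiSeparated ((q ⁻¹ᵁ U : X.Opens) : Set X))
    {x : X} (hx : x ∈ q ⁻¹ᵁ U) :
    ∃ (m : ℕ) (_ : 0 < m) (s : Γ(CohB1.tensorPow L m, q ⁻¹ᵁ U)), x ∈ nv _ s ∧ IsAffineOpen (nv _ s) := by
  obtain ⟨e, hxe, he⟩ := h U hU x hx
  obtain ⟨b, hxb, -, haff, -⟩ := HImmFin.exists_good he hxe
  obtain ⟨n, hn⟩ := exists_extend_fun hL hc hs (se q φ e) b
  obtain ⟨t, ht⟩ := hn n le_rfl
  let S : Γ(CohB1.tensorPow L (n + 1), q ⁻¹ᵁ U) := tmul t (se q φ e)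
  have hS : nv _ S = X.basicOpen b := by
    have h1 : nv _ S = nv _ t ⊓ nv L (se q φ e) :=
      VATens.nv_tmul (VATens.locGen_of_isInvertible (isInvertible_tensorPow hL n) _)
        (VATens.locGen_of_isInvertible hL _) t (se q φ e)
    have h2 : nv L (se q φ e) ⊓ nv _ t = X.basicOpen b :=
      nv_inf_of_eq_smul t (nv_le L (se q φ e)) ((isGen_nv L (se q φ e)).pow n) b ht
    rw [h1, inf_comm, h2]
  exact ⟨n + 1, Nat.succ_pos n, S, by rw [hS]; exact hxb, by rw [hS]; exact haff⟩

theorem exists_finite_of_mem_closure {A : Type u} [CommRing A] (R₀ G : Set A) {s : A} (h : s ∈ Subring.closure (R₀ ∪ G)) :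
    ∃ G' ⊆ G, G'.Finite ∧ s ∈ Subring.closure (R₀ ∪ G') := by
  induction h using Subring.closure_induction with
  | mem x hx =>
    rcases hx with hx | hx
    · exact ⟨∅, Set.empty_subset _, Set.finite_empty, Subring.subset_closure (Or.inl hx)⟩
    · exact ⟨{x}, Set.singleton_subset_iff.2 hx, Set.finite_singleton x, Subring.subset_closure (Or.inr rfl)⟩
  | zero => exact ⟨∅, Set.empty_subset _, Set.finite_empty, zero_mem _⟩
  | one => exact ⟨∅, Set.empty_subset _, Set.finite_empty, one_mem _⟩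
  | add x y _ _ hx hy =>
    obtain ⟨A, hA, hAf, hxA⟩ := hx
    obtain ⟨B, hB, hBf, hyB⟩ := hy
    refine ⟨A ∪ B, Set.union_subset hA hB, hAf.union hBf, add_mem ?_ ?_⟩
    · exact Subring.closure_mono (Set.union_subset_union_right _ Set.subset_union_left) hxA
    · exact Subring.closure_mono (Set.union_subset_union_right _ Set.subset_union_right) hyB
  | neg x _ hx =>
    obtain ⟨A, hA, hAf, hxA⟩ := hx
    exact ⟨A, hA, hAf, neg_mem hxA⟩
  | mul x y _ _ hx hy =>
    obtain ⟨A, hA, hAf, hxA⟩ := hx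
    obtain ⟨B, hB, hBf, hyB⟩ := hy
    refine ⟨A ∪ B, Set.union_subset hA hB, hAf.union hBf, mul_mem ?_ ?_⟩
    · exact Subring.closure_mono (Set.union_subset_union_right _ Set.subset_union_left) hxA
    · exact Subring.closure_mono (Set.union_subset_union_right _ Set.subset_union_right) hyB

theorem exists_finite_closure {A : Type u} [CommRing A] (R₀ G : Set A) {S : Set A} (hS : S.Finite)
    (h : S ⊆ Subring.closure (R₀ ∪ G)) : ∃ G' ⊆ G, G'.Finite ∧ S ⊆ Subring.closure (R₀ ∪ G') := by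
  choose! G' hG' hfin hmem using fun (s : A) (hs : s ∈ S) => exists_finite_of_mem_closure R₀ G (h hs)
  refine ⟨⋃ s ∈ S, G' s, Set.iUnion₂_subset hG', hS.biUnion hfin, fun s hs => ?_⟩
  exact Subring.closure_mono (Set.union_subset_union_right _ (Set.subset_biUnion_of_mem hs)) (hmem s hs)

/-- **Finitely many ratios are enough** for a morphism locally of finite type. -/
theorem exists_finite_ratios {f : X ⟶ Y} [LocallyOfFiniteType f] [QuasiCompact f] {L : X.Modules} (hL : PicF.IsInvertible L)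
    {E : Y.Modules} {φ : E ⟶ (Scheme.Modules.pushforward f).obj L} {V : Y.Opens} (hV : IsAffineOpen V) {x : X}
    (h : At f φ V x) : ∃ (e : Γ(E, V)) (_ : x ∈ nz f φ e) (ι : Type u) (_ : Finite ι) (t : ι → Γ(E, V))
      (v : ι → Γ(X, nz f φ e)), (∀ i, res L (nz_le f φ e) (se f φ (t i)) = v i • res L (nz_le f φ e) (se f φ e)) ∧
      IsImmersion (mor (nz f φ e) (MvPolynomial.eval₂Hom (f.appLE V (nz f φ e) (nz_le f φ e)).hom v)) := by
  obtain ⟨e, hxe, he⟩ := h
  have hT : IsCompact ((nz f φ e : X.Opens) : Set X) := by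
    have h1 := isCompact_inf_nv (VATens.locGen_of_isInvertible hL (f ⁻¹ᵁ V)) (se f φ e)
      (f.isCompact_preimage hV.isCompact) le_rfl
    rwa [inf_eq_right.2 (nv_le _ _)] at h1
  obtain ⟨S, hSfin, hSB, hS⟩ := he.exists_finite hV hT (nz_le f φ e)
  have hSB' : S ⊆ Subring.closure (Set.range (fun a : Γ(Y, V) => ores (nz_le f φ e) (f.app V a)) ∪
    {a | ∃ t : Γ(E, V), res L (nz_le f φ e) (se f φ t) = a • res L (nz_le f φ e) (se f φ e)}) := hSB
  obtain ⟨G, hG, hGfin, hSG⟩ := exists_finite_closure _ _ hSfin hSB'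
  choose t ht using fun g : G => hG g.2
  have : Finite G := hGfin
  refine ⟨e, hxe, G, inferInstance, t, fun g => g.1, ht, ?_⟩
  rw [isImmersion_mor_iff]
  refine hS _ (fun a => ⟨MvPolynomial.C a, by simp⟩) (hSG.trans ?_)
  refine SetLike.coe_subset_coe.2 (Subring.closure_le.2 ?_)
  rintro _ (⟨a, rfl⟩ | hg)
  · exact ⟨MvPolynomial.C a, by rw [MvPolynomial.eval₂Hom_C]; rfl⟩
  · exact ⟨MvPolynomial.X ⟨_, hg⟩, by simp⟩

end K42.VAComp
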