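import Groth.Agent.EGA2.K42.HImmBC
import Groth.Agent.EGA2.K42.VATens

/-!
# Locality on the base of the section-level condition for relative very ampleness

`HImm.image` (open immersions), `image_nv` (nonvanishing loci of restricted sections), `At.of_restrict` (from `q ∣_ U` to
`𝟙 : q_* L ⟶ q_* L`), `At.of_sections` (comparison of two morphisms to `q_* L`), `va_id_of_restrict`.
-/

set_option autoImplicit false
universe u
open CategoryTheory CategoryTheory.Limits AlgebraicGeometry TopologicalSpace Opposite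

namespace K42.VALoc

open Groth.Agent.Fdesc.LocGen Groth.Agent.Ega2.Nv K43.HomImm K43.VADef Groth.Agent.Ega2 K42.HImmBC

variable {X Y : Scheme.{u}}

/-- `HImm` along an open immersion. -/
theorem _root_.K43.HomImm.HImm.image (j : X ⟶ Y) [IsOpenImmersion j] {W : X.Opens} {B : Subring Γ(X, W)} (h : HImm W B)
    {B' : Subring Γ(Y, j ''ᵁ W)} (hB : ∀ b ∈ B, (j.appIso W).inv.hom b ∈ B') : HImm (j ''ᵁ W) B' := by
  let ρ : B →+* Γ(Y, j ''ᵁ W) := (j.appIso W).inv.hom.comp B.subtype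
  refine HImm.of_hom ρ ?_ (fun b => hB b b.2)
  have e : W ≤ j ⁻¹ᵁ (j ''ᵁ W) := (j.preimage_image_eq W).ge
  have h1 : (j.isoImage W).hom ≫ mor (j ''ᵁ W) ρ = mor W B.subtype := by
    have h2 : (j.isoImage W).hom = j.resLE (j ''ᵁ W) W e := by
      rw [← cancel_mono (j ''ᵁ W).ι, Scheme.Hom.isoImage_hom_ι, Scheme.Hom.resLE_comp_ι]
    rw [h2, resLE_mor]
    congr 1
    have h3 : (j.appIso W).inv ≫ j.appLE (j ''ᵁ W) W e = 𝟙 _ := by
      rw [← Scheme.Hom.appIso_hom']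
      exact (j.appIso W).inv_hom_id
    ext b
    exact congr(($h3).hom (b : Γ(X, W)))
  have h4 : IsImmersion (mor W B.subtype) := h
  rw [← h1] at h4
  have h5 : IsImmersion ((j.isoImage W).inv ≫ (j.isoImage W).hom ≫ mor (j ''ᵁ W) ρ) := inferInstance
  rwa [Iso.inv_hom_id_assoc] at h5

/-- Nonvanishing loci of restricted sections. -/
theorem image_nv (j : X ⟶ Y) [IsOpenImmersion j] {L : Y.Modules} {U : X.Opens} (m : Γ(L, j ''ᵁ U)) :
    j ''ᵁ (nv (L.restrict j) (toRestrict j m)) = nv L m := by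
  apply le_antisymm
  · rw [le_nv_iff L m (j.image_mono (nv_le _ _)), ← isGen_toRestrict_iff j, ← res_toRestrict]
    exact isGen_nv _ _
  · have h1 : j ''ᵁ (j ⁻¹ᵁ (nv L m)) = nv L m := by
      rw [j.image_preimage_eq_opensRange_inf]
      exact inf_eq_right.mpr ((nv_le _ _).trans (j.image_le_opensRange U))
    rw [← h1]
    refine j.image_mono ?_
    have h2 : j ⁻¹ᵁ (nv L m) ≤ U := (j.preimage_mono (nv_le _ _)).trans (j.preimage_image_eq U).le
    rw [le_nv_iff _ _ h2, res_toRestrict, isGen_toRestrict_iff]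
    have h3 := (isGen_nv L m).res h1.le
    rw [res_res] at h3
    exact h3

/-- Comparison of two morphisms to `q_* L`. -/
theorem At.of_sections {q : X ⟶ Y} {L : X.Modules} {E E' : Y.Modules} {φ : E ⟶ (Scheme.Modules.pushforward q).obj L}
    {φ' : E' ⟶ (Scheme.Modules.pushforward q).obj L} {U : Y.Opens} (c : Γ(E, U) → Γ(E', U))
    (hc : ∀ e, se q φ' (c e) = se q φ e) {x : X} (h : At q φ U x) : At q φ' U x := by
  obtain ⟨e, hxe, he⟩ := h
  have hnz : nz q φ' (c e) = nz q φ e := by rw [nz, hc]; rfl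
  refine ⟨c e, by rw [hnz]; exact hxe, himm_congr hnz _ _ (fun b hb => ?_) he⟩
  refine ores_mem_of_closure hnz.le _ _ ?_ hb
  rintro b (⟨a, rfl⟩ | ⟨t, ht⟩)
  · dsimp only
    rw [ores_ores]
    exact app_mem_ratioRing q φ' (c e) a
  · refine ratio_mem_ratioRing q φ' (c e) (c t) ?_
    have h1 := congrArg (res L hnz.le) ht
    rw [res_smul, res_res, res_res] at h1
    rw [hc, hc]
    exact h1

/-- From the restriction of `q` over an open of the base to `𝟙 : q_* L ⟶ q_* L`. -/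
theorem At.of_restrict {q : X ⟶ Y} {L : X.Modules} {U : Y.Opens} {E : (U : Scheme.{u}).Modules}
    {φ : E ⟶ (Scheme.Modules.pushforward (q ∣_ U)).obj (L.restrict (q ⁻¹ᵁ U).ι)} {V : (U : Scheme.{u}).Opens}
    {x : (q ⁻¹ᵁ U : Scheme.{u})} (h : At (q ∣_ U) φ V x) :
    At q (𝟙 ((Scheme.Modules.pushforward q).obj L)) (U.ι ''ᵁ V) ((q ⁻¹ᵁ U).ι x) := by
  obtain ⟨e, hxe, he⟩ := h
  let j := (q ⁻¹ᵁ U).ι
  have himg : j ''ᵁ ((q ∣_ U) ⁻¹ᵁ V) = q ⁻¹ᵁ (U.ι ''ᵁ V) := image_morphismRestrict_preimage q U V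
  -- sections
  let c : Γ(E, V) → Γ((Scheme.Modules.pushforward q).obj L, U.ι ''ᵁ V) := fun t =>
    (res L himg.ge ((toRestrict j).symm (se (q ∣_ U) φ t)) : Γ(L, q ⁻¹ᵁ (U.ι ''ᵁ V)))
  have hc : ∀ t, se q (𝟙 ((Scheme.Modules.pushforward q).obj L)) (c t) =
      res L himg.ge ((toRestrict j).symm (se (q ∣_ U) φ t)) := fun t => rfl
  have hnz : nz q (𝟙 ((Scheme.Modules.pushforward q).obj L)) (c e) = j ''ᵁ (nz (q ∣_ U) φ e) := by
    rw [nz, hc, nv_res]
    have h1 := image_nv j ((toRestrict j).symm (se (q ∣_ U) φ e))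
    rw [AddEquiv.apply_symm_apply] at h1
    rw [← h1]
    refine inf_eq_right.mpr ((j.image_mono (nv_le _ _)).trans himg.le)
  have h2 : HImm (j ''ᵁ (nz (q ∣_ U) φ e)) ((ratioRing (q ∣_ U) φ e).map (j.appIso _).inv.hom) :=
    HImm.image j he (fun b hb => ⟨b, hb, rfl⟩)
  refine ⟨c e, by rw [hnz]; exact ⟨x, hxe, rfl⟩, himm_congr hnz _ _ ?_ h2⟩
  rintro _ ⟨b, hb, rfl⟩
  have hcl : ratioRing (q ∣_ U) φ e ≤ (ratioRing q (𝟙 ((Scheme.Modules.pushforward q).obj L)) (c e)).comap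
      ((ores hnz.le).comp (j.appIso (nz (q ∣_ U) φ e)).inv.hom) := by
    refine Subring.closure_le.mpr ?_
    rintro b (⟨a, rfl⟩ | ⟨t, ht⟩)
    · have h3 : ((ores hnz.le).comp (j.appIso (nz (q ∣_ U) φ e)).inv.hom)
          (ores (nz_le (q ∣_ U) φ e) ((q ∣_ U).app V a)) =
          ores (nz_le q (𝟙 ((Scheme.Modules.pushforward q).obj L)) (c e))
            (q.app (U.ι ''ᵁ V) ((U.ι.appIso V).inv.hom a)) := by
        rw [morphismRestrict_app']
        have h4 : (q.appLE (U.ι ''ᵁ V) (j ''ᵁ ((q ∣_ U) ⁻¹ᵁ V)) himg.le).hom a = ores himg.le (q.app (U.ι ''ᵁ V) a) := rfl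
        rw [Scheme.Opens.ι_appIso, Scheme.Opens.ι_appIso]
        change ores hnz.le (ores (j.image_mono (nz_le (q ∣_ U) φ e))
          ((q.appLE (U.ι ''ᵁ V) (j ''ᵁ ((q ∣_ U) ⁻¹ᵁ V)) himg.le).hom a)) = ores _ (q.app (U.ι ''ᵁ V) a)
        rw [h4, ores_ores, ores_ores]
      change ((ores hnz.le).comp (j.appIso (nz (q ∣_ U) φ e)).inv.hom)
          (ores (nz_le (q ∣_ U) φ e) ((q ∣_ U).app V a)) ∈ ratioRing q (𝟙 ((Scheme.Modules.pushforward q).obj L)) (c e)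
      rw [h3]
      exact app_mem_ratioRing q (𝟙 ((Scheme.Modules.pushforward q).obj L)) (c e) _
    · refine ratio_mem_ratioRing q (𝟙 ((Scheme.Modules.pushforward q).obj L)) (c e) (c t) ?_
      have h3 := congrArg (fun z => res L hnz.le ((toRestrict j).symm z)) ht
      simp only [toRestrict_symm_smul, res_smul] at h3
      rw [hc, hc, res_res, res_res]
      have h4 : ∀ m : Γ(L.restrict j, (q ∣_ U) ⁻¹ᵁ V), res L hnz.le ((toRestrict j).symm
          (res (L.restrict j) (nz_le (q ∣_ U) φ e) m)) = res L (hnz.le.trans (j.image_mono (nz_le (q ∣_ U) φ e)))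
            ((toRestrict j).symm m) := by
        intro m
        exact res_res L (j.image_mono (nz_le (q ∣_ U) φ e)) hnz.le ((toRestrict j).symm m)
      rw [h4, h4] at h3
      exact h3
  exact hcl hb

/-- Local very ampleness on the base gives the condition for `𝟙 : q_* L ⟶ q_* L`. -/
theorem va_id_of_restrict {q : X ⟶ Y} {L : X.Modules} (hq : Coh.IsQCoh ((Scheme.Modules.pushforward q).obj L))
    (h : ∀ y : Y, ∃ (U : Y.Opens) (_ : y ∈ U) (E : (U : Scheme.{u}).Modules)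
      (φ : E ⟶ (Scheme.Modules.pushforward (q ∣_ U)).obj (L.restrict (q ⁻¹ᵁ U).ι)), VA (q ∣_ U) φ) :
    VA q (𝟙 ((Scheme.Modules.pushforward q).obj L)) := by
  refine va_of_cover hq fun x => ?_
  obtain ⟨U, hyU, E, φ, hφ⟩ := h (q x)
  obtain ⟨V, hV, hyV, -⟩ := exists_isAffineOpen_mem_and_subset (X := (U : Scheme.{u})) (x := ⟨q x, hyU⟩) (U := ⊤) trivial
  have hxU : x ∈ q ⁻¹ᵁ U := hyU
  have hx : (⟨x, hxU⟩ : (q ⁻¹ᵁ U : Scheme.{u})) ∈ (q ∣_ U) ⁻¹ᵁ V := by
    change (q ∣_ U) ⟨x, hxU⟩ ∈ V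
    have : (q ∣_ U) ⟨x, hxU⟩ = ⟨q x, hyU⟩ := Subtype.ext (morphismRestrict_base_coe q U ⟨x, hxU⟩)
    rw [this]
    exact hyV
  refine ⟨U.ι ''ᵁ V, hV.image_of_isOpenImmersion _, ⟨⟨q x, hyU⟩, hyV, rfl⟩, ?_⟩
  exact At.of_restrict (hφ V hV _ hx)

end K42.VALoc
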