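import Groth.Agent.EGA2.K42.DomQ

/-!
# The morphism `Proj(u) : G(u) ⟶ P`: preimages of the standard opens, compatibility with the projections
-/

set_option autoImplicit false
universe u
open CategoryTheory CategoryTheory.Limits AlgebraicGeometry TopologicalSpace Opposite
open scoped HomogeneousIdeal
noncomputable section

namespace K42.DomMap
open K42.DomQ

section

variable {S S' : Scheme.{u}} {g : S' ⟶ S} {𝒮 : RelProj.QCGrAlg S} {𝒮' : RelProj.QCGrAlg S'} (u : RelProj.QGrHom g 𝒮 𝒮')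
  {P : Scheme.{u}} {p : P ⟶ S}
  {chart : ∀ (U : S.Opens) (hU : IsAffineOpen U), (((p ⁻¹ᵁ U : P.Opens) : Scheme.{u}) ≅ Proj (𝒮.deg U hU))}
  {P' : Scheme.{u}} {p' : P' ⟶ S'}
  {chart' : ∀ (U' : S'.Opens) (hU' : IsAffineOpen U'), (((p' ⁻¹ᵁ U' : P'.Opens) : Scheme.{u}) ≅ Proj (𝒮'.deg U' hU'))}

/-- The standard open `D_+(f)` of `P` attached to `f ∈ 𝒮(U)`. -/
def std (p : P ⟶ S) (chart : ∀ (U : S.Opens) (hU : IsAffineOpen U), (((p ⁻¹ᵁ U : P.Opens) : Scheme.{u}) ≅ Proj (𝒮.deg U hU)))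
    (U : S.Opens) (hU : IsAffineOpen U) (f : 𝒮.presheaf.obj (op U)) : P.Opens :=
  (RelProj.emb p chart U hU) ''ᵁ Proj.basicOpen (𝒮.deg U hU) f

/-- The standard affine chart of `P` attached to `f ∈ 𝒮(U)_d`. -/
def aff (p : P ⟶ S) (chart : ∀ (U : S.Opens) (hU : IsAffineOpen U), (((p ⁻¹ᵁ U : P.Opens) : Scheme.{u}) ≅ Proj (𝒮.deg U hU)))
    (U : S.Opens) (hU : IsAffineOpen U) {d : ℕ} (hd : 0 < d) (f : 𝒮.presheaf.obj (op U)) (hf : f ∈ 𝒮.deg U hU d) :
    Spec (CommRingCat.of (HomogeneousLocalization.Away (𝒮.deg U hU) f)) ⟶ P :=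
  Proj.awayι (𝒮.deg U hU) f hf hd ≫ RelProj.emb p chart U hU

instance (p : P ⟶ S) (chart : ∀ (U : S.Opens) (hU : IsAffineOpen U), (((p ⁻¹ᵁ U : P.Opens) : Scheme.{u}) ≅ Proj (𝒮.deg U hU)))
    (U : S.Opens) (hU : IsAffineOpen U) {d : ℕ} (hd : 0 < d) (f : 𝒮.presheaf.obj (op U)) (hf : f ∈ 𝒮.deg U hU d) :
    IsOpenImmersion (aff p chart U hU hd f hf) := by
  unfold aff; infer_instance

theorem opensRange_aff (U : S.Opens) (hU : IsAffineOpen U) {d : ℕ} (hd : 0 < d) (f : 𝒮.presheaf.obj (op U))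
    (hf : f ∈ 𝒮.deg U hU d) : (aff p chart U hU hd f hf).opensRange = std p chart U hU f := by
  change (Proj.awayι (𝒮.deg U hU) f hf hd ≫ RelProj.emb p chart U hU).opensRange = _
  rw [Scheme.Hom.opensRange_comp, Proj.opensRange_awayι]
  rfl

theorem isAffineOpen_std (U : S.Opens) (hU : IsAffineOpen U) {d : ℕ} (hd : 0 < d) (f : 𝒮.presheaf.obj (op U))
    (hf : f ∈ 𝒮.deg U hU d) : IsAffineOpen (std p chart U hU f) := by
  rw [← opensRange_aff U hU hd f hf]
  exact isAffineOpen_opensRange _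

theorem std_le (U : S.Opens) (hU : IsAffineOpen U) (f : 𝒮.presheaf.obj (op U)) : std p chart U hU f ≤ p ⁻¹ᵁ U :=
  image_emb_le p chart U hU _

theorem emb_mem_std_iff (U : S.Opens) (hU : IsAffineOpen U) (f : 𝒮.presheaf.obj (op U)) (z : Proj (𝒮.deg U hU)) :
    (RelProj.emb p chart U hU).base z ∈ std p chart U hU f ↔ f ∉ z.asHomogeneousIdeal := by
  constructor
  · rintro ⟨w, hw, he⟩
    rwa [← emb_injective p chart U hU he]
  · intro h; exact ⟨z, h, rfl⟩

variable (p chart) in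
/-- The standard opens cover `P`. -/
theorem exists_mem_std (U : S.Opens) (hU : IsAffineOpen U) (x : P) (hx : x ∈ p ⁻¹ᵁ U) :
    ∃ (d : ℕ) (_ : 0 < d) (f : 𝒮.presheaf.obj (op U)) (_ : f ∈ 𝒮.deg U hU d), x ∈ std p chart U hU f := by
  obtain ⟨z, rfl⟩ := exists_emb_eq p chart U hU x hx
  obtain ⟨d, hd, f, hf, hz⟩ := exists_notMem z
  exact ⟨d, hd, f, hf, (emb_mem_std_iff U hU f z).mpr hz⟩

/-- `awayEmb` is a standard affine chart of `P'`. -/
theorem awayEmb_eq (U : S.Opens) (hU : IsAffineOpen U) (U' : S'.Opens) (hU' : IsAffineOpen U') (hle : U' ≤ g ⁻¹ᵁ U)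
    {d : ℕ} (hd : 0 < d) (f : 𝒮.presheaf.obj (op U)) (hf : f ∈ 𝒮.deg U hU d) :
    RelProj.awayEmb u p' chart' U hU U' hU' hle hd f hf =
      aff p' chart' U' hU' hd (u.gradedAt U hU U' hU' hle f) ((u.gradedAt U hU U' hU' hle).map_mem hf) := rfl

theorem range_awayEmb (U : S.Opens) (hU : IsAffineOpen U) (U' : S'.Opens) (hU' : IsAffineOpen U') (hle : U' ≤ g ⁻¹ᵁ U)
    {d : ℕ} (hd : 0 < d) (f : 𝒮.presheaf.obj (op U)) (hf : f ∈ 𝒮.deg U hU d) :
    Set.range (RelProj.awayEmb u p' chart' U hU U' hU' hle hd f hf).base =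
      (std p' chart' U' hU' (u.gradedAt U hU U' hU' hle f) : Set P') := by
  rw [← opensRange_aff U' hU' hd (u.gradedAt U hU U' hU' hle f) ((u.gradedAt U hU U' hU' hle).map_mem hf)]
  rfl

/-- The standard open `D_+(u f)` is contained in `G(u)`. -/
theorem std_le_domQ (U : S.Opens) (hU : IsAffineOpen U) (U' : S'.Opens) (hU' : IsAffineOpen U') (hle : U' ≤ g ⁻¹ᵁ U)
    {d : ℕ} (hd : 0 < d) (f : 𝒮.presheaf.obj (op U)) (hf : f ∈ 𝒮.deg U hU d) :
    std p' chart' U' hU' (u.gradedAt U hU U' hU' hle f) ≤ RelProj.domQ u p' chart' := by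
  have h := RelProj.range_awayEmb_subset_domQ u p' chart' U hU U' hU' hle hd f hf
  rw [range_awayEmb, Scheme.Opens.range_ι] at h
  exact h

/-- A point of `G(u)` over the second member of an affine pair lies in some `D_+(u f)`. -/
theorem exists_mem_std_of_mem_domQ (hP' : RelProj.IsRelProj 𝒮' p' chart') (U : S.Opens) (hU : IsAffineOpen U)
    (U' : S'.Opens) (hU' : IsAffineOpen U') (hle : U' ≤ g ⁻¹ᵁ U) (x : P') (hx : x ∈ RelProj.domQ u p' chart')
    (hxU : x ∈ p' ⁻¹ᵁ U') :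
    ∃ (d : ℕ) (_ : 0 < d) (f : 𝒮.presheaf.obj (op U)) (_ : f ∈ 𝒮.deg U hU d),
      x ∈ std p' chart' U' hU' (u.gradedAt U hU U' hU' hle f) := by
  obtain ⟨z, rfl⟩ := exists_emb_eq p' chart' U' hU' x hxU
  rw [emb_mem_domQ_iff u hP' U hU U' hU' hle, mem_domOpen_iff] at hx
  obtain ⟨d, hd, f, hf, hz⟩ := hx
  exact ⟨d, hd, f, hf, (emb_mem_std_iff U' hU' _ z).mpr hz⟩

section mapOn

variable {u} {r : ((RelProj.domQ u p' chart' : P'.Opens) : Scheme.{u}) ⟶ P}
  (hr : RelProj.IsProjQMapOn u p chart p' chart' (RelProj.domQ u p' chart') r)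

variable (u p' chart') in
/-- The standard affine chart `Spec 𝒮'(U')_(u f) ⟶ G(u)`. -/
def affOn (U : S.Opens) (hU : IsAffineOpen U) (U' : S'.Opens) (hU' : IsAffineOpen U') (hle : U' ≤ g ⁻¹ᵁ U)
    {d : ℕ} (hd : 0 < d) (f : 𝒮.presheaf.obj (op U)) (hf : f ∈ 𝒮.deg U hU d) :
    Spec (CommRingCat.of (HomogeneousLocalization.Away (𝒮'.deg U' hU') (u.gradedAt U hU U' hU' hle f))) ⟶
      ((RelProj.domQ u p' chart' : P'.Opens) : Scheme.{u}) :=
  IsOpenImmersion.lift (RelProj.domQ u p' chart').ι (RelProj.awayEmb u p' chart' U hU U' hU' hle hd f hf)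
    (RelProj.range_awayEmb_subset_domQ u p' chart' U hU U' hU' hle hd f hf)

theorem affOn_ι (U : S.Opens) (hU : IsAffineOpen U) (U' : S'.Opens) (hU' : IsAffineOpen U') (hle : U' ≤ g ⁻¹ᵁ U)
    {d : ℕ} (hd : 0 < d) (f : 𝒮.presheaf.obj (op U)) (hf : f ∈ 𝒮.deg U hU d) :
    affOn u p' chart' U hU U' hU' hle hd f hf ≫ (RelProj.domQ u p' chart').ι =
      RelProj.awayEmb u p' chart' U hU U' hU' hle hd f hf :=
  IsOpenImmersion.lift_fac _ _ _

instance (U : S.Opens) (hU : IsAffineOpen U) (U' : S'.Opens) (hU' : IsAffineOpen U') (hle : U' ≤ g ⁻¹ᵁ U)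
    {d : ℕ} (hd : 0 < d) (f : 𝒮.presheaf.obj (op U)) (hf : f ∈ 𝒮.deg U hU d) :
    IsOpenImmersion (affOn u p' chart' U hU U' hU' hle hd f hf) := by
  have : IsOpenImmersion (affOn u p' chart' U hU U' hU' hle hd f hf ≫ (RelProj.domQ u p' chart').ι) := by
    rw [affOn_ι, awayEmb_eq]; infer_instance
  exact IsOpenImmersion.of_comp _ (RelProj.domQ u p' chart').ι

theorem opensRange_affOn (U : S.Opens) (hU : IsAffineOpen U) (U' : S'.Opens) (hU' : IsAffineOpen U') (hle : U' ≤ g ⁻¹ᵁ U)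
    {d : ℕ} (hd : 0 < d) (f : 𝒮.presheaf.obj (op U)) (hf : f ∈ 𝒮.deg U hU d) :
    (affOn u p' chart' U hU U' hU' hle hd f hf).opensRange =
      (RelProj.domQ u p' chart').ι ⁻¹ᵁ std p' chart' U' hU' (u.gradedAt U hU U' hU' hle f) := by
  rw [← opensRange_aff U' hU' hd (u.gradedAt U hU U' hU' hle f) ((u.gradedAt U hU U' hU' hle).map_mem hf)]
  ext x
  constructor
  · rintro ⟨y, rfl⟩
    refine ⟨y, ?_⟩
    rw [← awayEmb_eq, ← affOn_ι]; rfl
  · rintro ⟨y, hy⟩
    refine ⟨y, (RelProj.domQ u p' chart').ι.isOpenEmbedding.injective ?_⟩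
    refine Eq.trans ?_ hy
    rw [← awayEmb_eq, ← affOn_ι]; rfl

include hr in
/-- The defining equation of `r = Proj(u)` on the standard charts. -/
theorem affOn_comp (U : S.Opens) (hU : IsAffineOpen U) (U' : S'.Opens) (hU' : IsAffineOpen U') (hle : U' ≤ g ⁻¹ᵁ U)
    {d : ℕ} (hd : 0 < d) (f : 𝒮.presheaf.obj (op U)) (hf : f ∈ 𝒮.deg U hU d) :
    affOn u p' chart' U hU U' hU' hle hd f hf ≫ r =
      Spec.map (CommRingCat.ofHom (HomogeneousLocalization.Away.map (u.gradedAt U hU U' hU' hle) f)) ≫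
        aff p chart U hU hd f hf :=
  hr U hU U' hU' hle d hd f hf _

include hr in
/-- `r` carries `D_+(u f)` into `D_+(f)`. -/
theorem apply_mem_std (U : S.Opens) (hU : IsAffineOpen U) (U' : S'.Opens) (hU' : IsAffineOpen U') (hle : U' ≤ g ⁻¹ᵁ U)
    {d : ℕ} (hd : 0 < d) (f : 𝒮.presheaf.obj (op U)) (hf : f ∈ 𝒮.deg U hU d)
    (x : ((RelProj.domQ u p' chart' : P'.Opens) : Scheme.{u}))
    (hx : x.1 ∈ std p' chart' U' hU' (u.gradedAt U hU U' hU' hle f)) :
    r.base x ∈ std p chart U hU f := by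
  have h : x ∈ (affOn u p' chart' U hU U' hU' hle hd f hf).opensRange := by
    rw [opensRange_affOn]; exact hx
  obtain ⟨y, rfl⟩ := h
  have e : r.base ((affOn u p' chart' U hU U' hU' hle hd f hf).base y) =
      (affOn u p' chart' U hU U' hU' hle hd f hf ≫ r).base y := rfl
  change r.base ((affOn u p' chart' U hU U' hU' hle hd f hf).base y) ∈ _
  rw [e, affOn_comp hr, ← opensRange_aff U hU hd f hf]
  exact ⟨_, rfl⟩

/-- `g^d / f^e` maps to `(ψ g)^d / (ψ f)^e`. -/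
theorem map_isLocalizationElem {A σ : Type u} [CommRing A] [SetLike σ A] [AddSubgroupClass σ A] {𝒜 : ℕ → σ} [GradedRing 𝒜]
    {B τ : Type u} [CommRing B] [SetLike τ B] [AddSubgroupClass τ B] {ℬ : ℕ → τ} [GradedRing ℬ] (ψ : 𝒜 →+*ᵍ ℬ)
    {d e : ℕ} {f h : A} (hf : f ∈ 𝒜 d) (hh : h ∈ 𝒜 e) :
    HomogeneousLocalization.Away.map ψ f (HomogeneousLocalization.Away.isLocalizationElem hf hh) =
      HomogeneousLocalization.Away.isLocalizationElem (ψ.map_mem hf) (ψ.map_mem hh) := by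
  rw [HomogeneousLocalization.Away.isLocalizationElem, HomogeneousLocalization.Away.map_mk]
  apply HomogeneousLocalization.val_injective
  rw [HomogeneousLocalization.Away.val_mk, HomogeneousLocalization.Away.val_mk, map_pow]
  rfl

/-- The standard open `D_+(h)` on the chart of `f`. -/
theorem aff_preimage_std (U : S.Opens) (hU : IsAffineOpen U) {d : ℕ} (hd : 0 < d) (f : 𝒮.presheaf.obj (op U))
    (hf : f ∈ 𝒮.deg U hU d) {e : ℕ} (he : 0 < e) (h : 𝒮.presheaf.obj (op U)) (hh : h ∈ 𝒮.deg U hU e) :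
    aff p chart U hU hd f hf ⁻¹ᵁ std p chart U hU h =
      PrimeSpectrum.basicOpen (HomogeneousLocalization.Away.isLocalizationElem hf hh) := by
  rw [← Proj.awayι_preimage_basicOpen (𝒜 := 𝒮.deg U hU) hf hd hh he]
  change Proj.awayι (𝒮.deg U hU) f hf hd ⁻¹ᵁ (RelProj.emb p chart U hU ⁻¹ᵁ std p chart U hU h) = _
  congr 1
  exact (RelProj.emb p chart U hU).preimage_image_eq _

include hr in
/-- **Preimages of the standard opens**: over `U'`, the preimage of `D_+(f)` under `r = Proj(u)` is `D_+(u f)`. -/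
theorem preimage_std_inf (hP' : RelProj.IsRelProj 𝒮' p' chart')
    (U : S.Opens) (hU : IsAffineOpen U) (U' : S'.Opens) (hU' : IsAffineOpen U') (hle : U' ≤ g ⁻¹ᵁ U)
    {d : ℕ} (hd : 0 < d) (f : 𝒮.presheaf.obj (op U)) (hf : f ∈ 𝒮.deg U hU d) :
    r ⁻¹ᵁ std p chart U hU f ⊓ (RelProj.domQ u p' chart').ι ⁻¹ᵁ (p' ⁻¹ᵁ U') =
      (RelProj.domQ u p' chart').ι ⁻¹ᵁ std p' chart' U' hU' (u.gradedAt U hU U' hU' hle f) := by
  apply le_antisymm
  · rintro x ⟨hx, hxU⟩
    obtain ⟨e, he, h, hh, hxh⟩ := exists_mem_std_of_mem_domQ u hP' U hU U' hU' hle x.1 x.2 hxU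
    have hxr : x ∈ (affOn u p' chart' U hU U' hU' hle he h hh).opensRange := by
      rw [opensRange_affOn]; exact hxh
    obtain ⟨y, rfl⟩ := hxr
    have hx' : (affOn u p' chart' U hU U' hU' hle he h hh ≫ r).base y ∈ std p chart U hU f := hx
    rw [affOn_comp hr] at hx'
    have hx2 : (Spec.map (CommRingCat.ofHom (HomogeneousLocalization.Away.map (u.gradedAt U hU U' hU' hle) h))).base y ∈
      aff p chart U hU he h hh ⁻¹ᵁ std p chart U hU f := hx'
    rw [aff_preimage_std U hU he h hh hd f hf] at hx2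
    have hx3 : y ∈ PrimeSpectrum.basicOpen (HomogeneousLocalization.Away.map (u.gradedAt U hU U' hU' hle) h
      (HomogeneousLocalization.Away.isLocalizationElem hh hf)) := hx2
    rw [map_isLocalizationElem] at hx3
    have hx4 : y ∈ aff p' chart' U' hU' he (u.gradedAt U hU U' hU' hle h) ((u.gradedAt U hU U' hU' hle).map_mem hh) ⁻¹ᵁ
        std p' chart' U' hU' (u.gradedAt U hU U' hU' hle f) := by
      have h5 := aff_preimage_std (p := p') (chart := chart') U' hU' he (u.gradedAt U hU U' hU' hle h)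
        ((u.gradedAt U hU U' hU' hle).map_mem hh) hd (u.gradedAt U hU U' hU' hle f)
        ((u.gradedAt U hU U' hU' hle).map_mem hf)
      rw [h5]
      exact hx3
    rw [← awayEmb_eq, ← affOn_ι] at hx4
    exact hx4
  · refine le_inf (fun x hx => apply_mem_std hr U hU U' hU' hle hd f hf x hx) ?_
    exact fun x hx => std_le U' hU' _ hx

end mapOn

/-- Two morphisms out of `G(u)` which agree on the standard affine charts are equal. -/
theorem hom_ext_domQ (hP' : RelProj.IsRelProj 𝒮' p' chart') {T : Scheme.{u}}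
    {a b : ((RelProj.domQ u p' chart' : P'.Opens) : Scheme.{u}) ⟶ T}
    (h : ∀ (U : S.Opens) (hU : IsAffineOpen U) (U' : S'.Opens) (hU' : IsAffineOpen U') (hle : U' ≤ g ⁻¹ᵁ U)
      (d : ℕ) (hd : 0 < d) (f : 𝒮.presheaf.obj (op U)) (hf : f ∈ 𝒮.deg U hU d),
      affOn u p' chart' U hU U' hU' hle hd f hf ≫ a = affOn u p' chart' U hU U' hU' hle hd f hf ≫ b) : a = b := by
  have hc : ∀ x : ((RelProj.domQ u p' chart' : P'.Opens) : Scheme.{u}),
      ∃ (Z : Scheme.{u}) (i : Z ⟶ ((RelProj.domQ u p' chart' : P'.Opens) : Scheme.{u})),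
        IsOpenImmersion i ∧ x ∈ Set.range i.base ∧ i ≫ a = i ≫ b := by
    intro x
    obtain ⟨U, hU, U', hU', hle, hxU⟩ := exists_affinePair g (p'.base x.1)
    obtain ⟨d, hd, f, hf, hx⟩ := exists_mem_std_of_mem_domQ u hP' U hU U' hU' hle x.1 x.2 hxU
    refine ⟨_, affOn u p' chart' U hU U' hU' hle hd f hf, inferInstance, ?_, h U hU U' hU' hle d hd f hf⟩
    have : x ∈ (affOn u p' chart' U hU U' hU' hle hd f hf).opensRange := by
      rw [opensRange_affOn]; exact hx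
    exact this
  choose Z i hi hx hab using hc
  let 𝒱 : ((RelProj.domQ u p' chart' : P'.Opens) : Scheme.{u}).OpenCover :=
    { I₀ := ((RelProj.domQ u p' chart' : P'.Opens) : Scheme.{u})
      X := Z
      f := i
      mem₀ := by
        rw [Scheme.presieve₀_mem_precoverage_iff]
        exact ⟨fun x => ⟨x, hx x⟩, hi⟩ }
  exact 𝒱.hom_ext _ _ hab

/-- `r = Proj(u)` lies over `g`. -/
theorem comp_p (hP : RelProj.IsRelProj 𝒮 p chart) (hP' : RelProj.IsRelProj 𝒮' p' chart')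
    {r : ((RelProj.domQ u p' chart' : P'.Opens) : Scheme.{u}) ⟶ P}
    (hr : RelProj.IsProjQMapOn u p chart p' chart' (RelProj.domQ u p' chart') r) :
    r ≫ p = (RelProj.domQ u p' chart').ι ≫ p' ≫ g := by
  refine hom_ext_domQ u hP' fun U hU U' hU' hle d hd f hf => ?_
  rw [← Category.assoc, affOn_comp hr, ← Category.assoc, affOn_ι, awayEmb_eq, aff, aff, Category.assoc, Category.assoc,
    emb_comp_p hP, Category.assoc, ← Category.assoc (RelProj.emb p' chart' U' hU'), emb_comp_p hP',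
    Proj.awayι_toSpecZero_assoc, Category.assoc, Proj.awayι_toSpecZero_assoc, Category.assoc,
    ← IsAffineOpen.SpecMap_appLE_fromSpec g hU hU' hle, ← Spec.map_comp_assoc, ← Spec.map_comp_assoc,
    ← Spec.map_comp_assoc, ← Spec.map_comp_assoc]
  congr 2
  ext a
  change Localization.mk (u.gradedAt U hU U' hU' hle ((𝒮.str.app (op U)).hom a))
      ⟨u.gradedAt U hU U' hU' hle 1, _⟩ =
    Localization.mk ((𝒮'.str.app (op U')).hom ((g.appLE U U' hle).hom a)) ⟨1, _⟩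
  have e1 : u.gradedAt U hU U' hU' hle ((𝒮.str.app (op U)).hom a) =
      (𝒮'.str.app (op U')).hom ((g.appLE U U' hle).hom a) := by
    rw [RelProj.QGrHom.gradedAt_apply, ← CommRingCat.comp_apply, u.toQHom.str_appLE, CommRingCat.comp_apply]
  rw [e1]
  congr 2
  exact map_one _

/-- `Proj(u)` is unique on `G(u)`. -/
theorem unique (hP' : RelProj.IsRelProj 𝒮' p' chart')
    {r r' : ((RelProj.domQ u p' chart' : P'.Opens) : Scheme.{u}) ⟶ P}
    (hr : RelProj.IsProjQMapOn u p chart p' chart' (RelProj.domQ u p' chart') r)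
    (hr' : RelProj.IsProjQMapOn u p chart p' chart' (RelProj.domQ u p' chart') r') : r = r' :=
  hom_ext_domQ u hP' fun U hU U' hU' hle d hd f hf => by rw [affOn_comp hr, affOn_comp hr']

/-- The preimage under `r` of the part of `P` over `U`. -/
theorem preimage_p (hP : RelProj.IsRelProj 𝒮 p chart) (hP' : RelProj.IsRelProj 𝒮' p' chart')
    {r : ((RelProj.domQ u p' chart' : P'.Opens) : Scheme.{u}) ⟶ P}
    (hr : RelProj.IsProjQMapOn u p chart p' chart' (RelProj.domQ u p' chart') r) (U : S.Opens) :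
    r ⁻¹ᵁ (p ⁻¹ᵁ U) = (RelProj.domQ u p' chart').ι ⁻¹ᵁ (p' ⁻¹ᵁ (g ⁻¹ᵁ U)) := by
  change (r ≫ p) ⁻¹ᵁ U = ((RelProj.domQ u p' chart').ι ≫ p' ≫ g) ⁻¹ᵁ U
  rw [comp_p u hP hP' hr]

/-- When `g⁻¹(U)` is (contained in) an affine `U'`: the preimage of `D_+(f)` is `D_+(u f)`. -/
theorem preimage_std (hP : RelProj.IsRelProj 𝒮 p chart) (hP' : RelProj.IsRelProj 𝒮' p' chart')
    {r : ((RelProj.domQ u p' chart' : P'.Opens) : Scheme.{u}) ⟶ P}
    (hr : RelProj.IsProjQMapOn u p chart p' chart' (RelProj.domQ u p' chart') r)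
    (U : S.Opens) (hU : IsAffineOpen U) (U' : S'.Opens) (hU' : IsAffineOpen U') (hle : U' ≤ g ⁻¹ᵁ U)
    (hge : g ⁻¹ᵁ U ≤ U')
    {d : ℕ} (hd : 0 < d) (f : 𝒮.presheaf.obj (op U)) (hf : f ∈ 𝒮.deg U hU d) :
    r ⁻¹ᵁ std p chart U hU f =
      (RelProj.domQ u p' chart').ι ⁻¹ᵁ std p' chart' U' hU' (u.gradedAt U hU U' hU' hle f) := by
  rw [← preimage_std_inf hr hP' U hU U' hU' hle hd f hf, eq_comm, inf_eq_left]
  refine (r.preimage_mono (std_le U hU f)).trans ?_
  rw [preimage_p u hP hP' hr]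
  exact fun x hx => hge hx

/-- When `g⁻¹(U)` is (contained in) an affine `U'`: over `D_+(f)`, the morphism `r` is `Spec` of
`𝒮(U)_(f) → 𝒮'(U')_(u f)`. -/
theorem isPullback (hP : RelProj.IsRelProj 𝒮 p chart) (hP' : RelProj.IsRelProj 𝒮' p' chart')
    {r : ((RelProj.domQ u p' chart' : P'.Opens) : Scheme.{u}) ⟶ P}
    (hr : RelProj.IsProjQMapOn u p chart p' chart' (RelProj.domQ u p' chart') r)
    (U : S.Opens) (hU : IsAffineOpen U) (U' : S'.Opens) (hU' : IsAffineOpen U') (hle : U' ≤ g ⁻¹ᵁ U)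
    (hge : g ⁻¹ᵁ U ≤ U')
    {d : ℕ} (hd : 0 < d) (f : 𝒮.presheaf.obj (op U)) (hf : f ∈ 𝒮.deg U hU d) :
    IsPullback (Spec.map (CommRingCat.ofHom (HomogeneousLocalization.Away.map (u.gradedAt U hU U' hU' hle) f)))
      (affOn u p' chart' U hU U' hU' hle hd f hf) (aff p chart U hU hd f hf) r := by
  refine IsOpenImmersion.isPullback _ _ _ _ (affOn_comp hr U hU U' hU' hle hd f hf) ?_
  rw [opensRange_aff, opensRange_affOn, preimage_std u hP hP' hr U hU U' hU' hle hge hd f hf]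

end

/-- Checking a local property on a family of cartesian squares over an open cover of the target. -/
theorem of_forall_isPullback {Q : MorphismProperty Scheme.{u}} [IsZariskiLocalAtTarget Q] {X Y : Scheme.{u}} (f : X ⟶ Y)
    (H : ∀ y : Y, ∃ (V W : Scheme.{u}) (k : W ⟶ V) (iW : W ⟶ X) (iV : V ⟶ Y),
      IsOpenImmersion iV ∧ y ∈ Set.range iV.base ∧ IsPullback k iW iV f ∧ Q k) : Q f := by
  choose V W k iW iV h1 h2 h3 h4 using H
  let 𝒱 : Y.OpenCover :=
    { I₀ := Y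
      X := V
      f := iV
      mem₀ := by
        rw [Scheme.presieve₀_mem_precoverage_iff]
        exact ⟨fun x => ⟨x, h2 x⟩, h1⟩ }
  refine IsZariskiLocalAtTarget.of_openCover 𝒱 fun y => ?_
  have e : Arrow.mk (k y) ≅ Arrow.mk (𝒱.pullbackHom f y) :=
    Arrow.isoMk ((h3 y).flip.isoPullback) (Iso.refl _) (by
      change (h3 y).flip.isoPullback.hom ≫ pullback.snd f (iV y) = k y ≫ 𝟙 _
      rw [(h3 y).flip.isoPullback_hom_snd, Category.comp_id])
  exact (Q.arrow_mk_iso_iff e).mp (h4 y)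

end K42.DomMap
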