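import Groth.Agent.EGA2.K42.HImmBC
import Groth.Agent.EGA2.K42.VATens
import Groth.Agent.Ega2.RelAmpComp

/-!
# Base change of the section-level condition for relative very ampleness

For a cartesian square and `φ : E ⟶ f_* L`: `bcHom : g^* E ⟶ f'_* (g'^* L)`, `se_bc` (pulled back sections), `VA.baseChange`.
-/

set_option autoImplicit false
universe u
open CategoryTheory CategoryTheory.Limits AlgebraicGeometry TopologicalSpace Opposite

namespace K42.VABC

open Groth.Agent.Fdesc.LocGen Groth.Agent.Ega2.Nv K43.HomImm K43.VADef Groth.Agent.Ega2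

variable {X Y X' Y' : Scheme.{u}} {f : X ⟶ Y} {g : Y' ⟶ Y} {g' : X' ⟶ X} {f' : X' ⟶ Y'}

theorem preimage_eq (w : g' ≫ f = f' ≫ g) (U : Y.Opens) : f' ⁻¹ᵁ (g ⁻¹ᵁ U) = g' ⁻¹ᵁ (f ⁻¹ᵁ U) := by
  rw [← Scheme.Hom.comp_preimage, ← Scheme.Hom.comp_preimage, w]

theorem ores_app_app (g' : X' ⟶ X) (f : X ⟶ Y) {U : Y.Opens} {W : X'.Opens} (h : W ≤ g' ⁻¹ᵁ (f ⁻¹ᵁ U)) (a : Γ(Y, U)) :
    ores h (g'.app (f ⁻¹ᵁ U) (f.app U a)) = ((g' ≫ f).appLE U W h).hom a := by
  rw [Scheme.Hom.appLE, Scheme.Hom.comp_app]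
  rfl

theorem ores_app_eq (w : g' ≫ f = f' ≫ g) (U : Y.Opens) {W : X'.Opens} (h : W ≤ g' ⁻¹ᵁ (f ⁻¹ᵁ U)) (h' : W ≤ f' ⁻¹ᵁ (g ⁻¹ᵁ U))
    (a : Γ(Y, U)) : ores h (g'.app (f ⁻¹ᵁ U) (f.app U a)) = ores h' (f'.app (g ⁻¹ᵁ U) (g.app U a)) := by
  rw [ores_app_app, ores_app_app]
  simp only [w]

/-- The morphism `E ⟶ g_* f'_* g'^* L` sending a section to the pullback of its image. -/
noncomputable def bcHom₀ (w : g' ≫ f = f' ≫ g) {L : X.Modules} {E : Y.Modules} (φ : E ⟶ (Scheme.Modules.pushforward f).obj L) :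
    E ⟶ (Scheme.Modules.pushforward g).obj ((Scheme.Modules.pushforward f').obj ((Scheme.Modules.pullback g').obj L)) :=
  mkHom (fun U => ((res ((Scheme.Modules.pullback g').obj L) (preimage_eq w U).le).comp
      (AddMonoidHom.mk' (fun s => pullSec g' s) (fun a b => pullSec_add g' a b))).comp
      (AddMonoidHom.mk' (fun e => se f φ e) (fun a b => se_add f φ a b)))
    (fun U a m => by
      change res _ (preimage_eq w U).le (pullSec g' (se f φ (a • m))) =
        (f'.app (g ⁻¹ᵁ U) (g.app U a) : Γ(X', f' ⁻¹ᵁ (g ⁻¹ᵁ U))) • res _ (preimage_eq w U).le (pullSec g' (se f φ m))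
      rw [se_smul, pullSec_smul, res_smul, ores_app_eq w U _ le_rfl, ores_refl])
    (fun U V h m => by
      change res _ (preimage_eq w V).le (pullSec g' (se f φ (res E h m))) =
        res ((Scheme.Modules.pullback g').obj L) (f'.preimage_mono (g.preimage_mono h))
          (res _ (preimage_eq w U).le (pullSec g' (se f φ m)))
      rw [← res_se f φ h, ← res_pullSec, res_res, res_res])

/-- The base change morphism `g^* E ⟶ f'_* (g'^* L)`. -/
noncomputable def bcHom (w : g' ≫ f = f' ≫ g) {L : X.Modules} {E : Y.Modules} (φ : E ⟶ (Scheme.Modules.pushforward f).obj L) :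
    (Scheme.Modules.pullback g).obj E ⟶ (Scheme.Modules.pushforward f').obj ((Scheme.Modules.pullback g').obj L) :=
  ((Scheme.Modules.pullbackPushforwardAdjunction g).homEquiv _ _).symm (bcHom₀ w φ)

theorem se_bc (w : g' ≫ f = f' ≫ g) {L : X.Modules} {E : Y.Modules} (φ : E ⟶ (Scheme.Modules.pushforward f).obj L)
    {U : Y.Opens} (e : Γ(E, U)) : se f' (bcHom w φ) (pullSec g e) =
      res ((Scheme.Modules.pullback g').obj L) (preimage_eq w U).le (pullSec g' (se f φ e)) := by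
  have h := homEquiv_app g (bcHom w φ) e
  rw [bcHom, Equiv.apply_symm_apply] at h
  exact h.symm

theorem nz_bc (w : g' ≫ f = f' ≫ g) {L : X.Modules} (hL : PicF.IsInvertible L) {E : Y.Modules}
    (φ : E ⟶ (Scheme.Modules.pushforward f).obj L) {U : Y.Opens} (e : Γ(E, U)) :
    nz f' (bcHom w φ) (pullSec g e) = g' ⁻¹ᵁ (nz f φ e) := by
  rw [nz, se_bc, nv_res, RelAmp.nv_pullSec _ (VATens.locGen_of_isInvertible hL _), preimage_eq w U]
  exact inf_eq_right.mpr (g'.preimage_mono (nz_le f φ e))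

/-- **Base change**. -/
theorem _root_.K43.VADef.VA.baseChange (hsq : IsPullback g' f' f g) {L : X.Modules} (hL : PicF.IsInvertible L) {E : Y.Modules}
    (hE : Coh.IsQCoh ((Scheme.Modules.pullback g).obj E)) {φ : E ⟶ (Scheme.Modules.pushforward f).obj L} (h : VA f φ) :
    VA f' (bcHom hsq.w φ) := by
  refine va_of_cover hE fun x => ?_
  obtain ⟨U, hU, hxU, -⟩ := exists_isAffineOpen_mem_and_subset (x := g (f' x)) (U := ⊤) trivial
  obtain ⟨V', hV', hxV', hle⟩ := exists_isAffineOpen_mem_and_subset (x := f' x) (U := g ⁻¹ᵁ U) hxU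
  have hgU : V' ≤ g ⁻¹ᵁ U := hle
  have hxfU : g' x ∈ f ⁻¹ᵁ U := by
    have : x ∈ f' ⁻¹ᵁ (g ⁻¹ᵁ U) := hxU
    rw [preimage_eq hsq.w] at this
    exact this
  obtain ⟨e, hxe, he⟩ := h U hU (g' x) hxfU
  have hnz : nz f' (bcHom hsq.w φ) (res _ hgU (pullSec g e)) = g' ⁻¹ᵁ (nz f φ e) ⊓ f' ⁻¹ᵁ V' := by
    rw [nz_res, nz_bc _ hL, inf_comm]
  refine ⟨V', hV', hxV', res _ hgU (pullSec g e), by rw [hnz]; exact ⟨hxe, hxV'⟩, ?_⟩
  refine HImm.baseChange hsq hU hV' hgU (nz_le f φ e) (fun a => app_mem_ratioRing f φ e a) he hnz ?_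
    (fun a => app_mem_ratioRing f' _ _ a)
  set W' := nz f' (bcHom hsq.w φ) (res _ hgU (pullSec g e)) with hW'
  have e1 : W' ≤ g' ⁻¹ᵁ (nz f φ e) := hnz.le.trans inf_le_left
  have e2 : W' ≤ f' ⁻¹ᵁ V' := hnz.le.trans inf_le_right
  intro b hb
  have hcl : ratioRing f φ e ≤ (ratioRing f' (bcHom hsq.w φ) (res _ hgU (pullSec g e))).comap (g'.appLE _ _ e1).hom := by
    refine Subring.closure_le.mpr ?_
    rintro b (⟨a, rfl⟩ | ⟨t, ht⟩)
    · change (g'.appLE _ _ e1).hom (ores (nz_le f φ e) (f.app U a)) ∈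
        ratioRing f' (bcHom hsq.w φ) (res _ hgU (pullSec g e))
      have h0 : f.appLE U _ (nz_le f φ e) ≫ g'.appLE _ _ e1 = g.appLE U V' hgU ≫ f'.appLE V' _ e2 := by
        rw [Scheme.Hom.appLE_comp_appLE, Scheme.Hom.appLE_comp_appLE]
        simp only [hsq.w]
      have h1 : (g'.appLE _ _ e1).hom (ores (nz_le f φ e) (f.app U a)) =
          ores e2 (f'.app V' ((g.appLE U V' hgU).hom a)) := congr(($h0).hom a)
      rw [h1]
      exact app_mem_ratioRing f' _ _ _
    · refine ratio_mem_ratioRing f' _ _ (res _ hgU (pullSec g t)) ?_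
      have h2 := congrArg (fun z => res ((Scheme.Modules.pullback g').obj L) e1 (pullSec g' z)) ht
      rw [pullSec_smul, res_smul, ← res_pullSec, ← res_pullSec, res_res, res_res] at h2
      rw [← res_se f' _ hgU, ← res_se f' _ hgU, se_bc, se_bc, res_res, res_res, res_res, res_res]
      exact h2
  exact hcl hb

end K42.VABC
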