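import Groth.Agent.EGA2.K42.VACompB
import Groth.Agent.Ega3B.PullTensor
import Groth.Agent.Ega2.Weight
import Groth.Agent.Ega1.QcqsPush

/-!
# Composition: `L ⊗ f^* (K^n)` satisfies the section-level condition relative to `f ≫ g` for `n` large
-/

set_option autoImplicit false
universe u
open CategoryTheory CategoryTheory.Limits AlgebraicGeometry TopologicalSpace Opposite

namespace K42.VAComp

open Groth.Agent.Fdesc.LocGen Groth.Agent.Ega2.Nv K43.HomImm K43.VADef Groth.Agent.Ega2 K42.HImmBC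

variable {X Y Z : Scheme.{u}}

theorem at_comp_iso {q : X ⟶ Y} {L L' : X.Modules} {E : Y.Modules}
    {φ : E ⟶ (Scheme.Modules.pushforward q).obj L} {U : Y.Opens} {x : X} (h : At q φ U x) (i : L ⟶ L') [IsIso i] :
    At q (φ ≫ (Scheme.Modules.pushforward q).map i) U x := by
  obtain ⟨e, hxe, he⟩ := h
  have hnz : nz q (φ ≫ (Scheme.Modules.pushforward q).map i) e = nz q φ e := by
    rw [nz, VAMisc.se_comp_map, VAMisc.nv_app_iso]; rfl
  refine ⟨e, by rw [hnz]; exact hxe, himm_congr hnz _ _ (fun b hb => ?_) he⟩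
  refine ores_mem_of_closure hnz.le _ _ ?_ hb
  rintro b (⟨a, rfl⟩ | ⟨t, ht⟩)
  · dsimp only
    rw [ores_ores]
    exact app_mem_ratioRing q _ e a
  · refine ratio_mem_ratioRing q _ e t ?_
    have h1 := congrArg (fun z => i.app _ (res L hnz.le z)) ht
    simp only [res_smul, res_res, Scheme.Modules.Hom.app_smul] at h1
    rw [VAMisc.se_comp_map, VAMisc.se_comp_map, ← app_res, ← app_res]
    exact h1

theorem at_id_iso {q : X ⟶ Y} {L L' : X.Modules} {U : Y.Opens} {x : X}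
    (h : At q (𝟙 ((Scheme.Modules.pushforward q).obj L)) U x) (i : L ≅ L') :
    At q (𝟙 ((Scheme.Modules.pushforward q).obj L')) U x :=
  VALoc.At.of_sections (φ := 𝟙 _ ≫ (Scheme.Modules.pushforward q).map i.hom)
    (fun e => (𝟙 _ ≫ (Scheme.Modules.pushforward q).map i.hom : _ ⟶ (Scheme.Modules.pushforward q).obj L').app U e)
    (fun _ => rfl) (at_comp_iso h i.hom)

theorem nonempty_twt_iso (f : X ⟶ Y) {L : X.Modules} (hL : PicF.IsInvertible L) {K : Y.Modules} (hK : PicF.IsInvertible K)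
    (m N r n : ℕ) (hn : n = m * N + m + (r + 1)) : Nonempty (twt f L K m N r ≅
      CohB1.tensorMod L ((Scheme.Modules.pullback f).obj (CohB1.tensorPow K n))) := by
  have hM := isInvertible_pullback f hK
  obtain ⟨em⟩ := Groth.Agent.Ega3B.PullTensor.nonempty_pullPowIso f hK m
  obtain ⟨en⟩ := Groth.Agent.Ega3B.PullTensor.nonempty_pullPowIso f hK n
  have hm : Weight.Wt L ((Scheme.Modules.pullback f).obj K) 0 m ((Scheme.Modules.pullback f).obj (CohB1.tensorPow K m)) :=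
    (Weight.Wt.tensorPow_snd m).congr_right em.symm
  have hn' : Weight.Wt L ((Scheme.Modules.pullback f).obj K) 0 n ((Scheme.Modules.pullback f).obj (CohB1.tensorPow K n)) :=
    (Weight.Wt.tensorPow_snd n).congr_right en.symm
  have h1 := ((Weight.Wt.fst.tensor (hm.pow N)).tensor hm).tensor
    (Weight.Wt.tensorPow_snd (L := L) (L' := (Scheme.Modules.pullback f).obj K) (r + 1))
  have h2 := Weight.Wt.fst.tensor hn'
  have e1 : 1 + 0 * N + 0 + 0 = 1 + 0 := by ring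
  have e2 : 0 + m * N + m + (r + 1) = 0 + n := by rw [hn]; ring
  rw [e1, e2] at h1
  exact Weight.Wt.nonempty_iso hL hM h1 h2

/-- **Composition.** -/
theorem va_comp {f : X ⟶ Y} {g : Y ⟶ Z} [CompactSpace Z] [LocallyOfFiniteType f] [QuasiCompact f] [QuasiCompact g]
    [QuasiSeparated f] [QuasiSeparated g] {L : X.Modules}
    (hL : PicF.IsInvertible L) {EL : Y.Modules} {φ : EL ⟶ (Scheme.Modules.pushforward f).obj L} (hφ : VA f φ)
    {K : Y.Modules} (hK : PicF.IsInvertible K) {EK : Z.Modules} {ψ : EK ⟶ (Scheme.Modules.pushforward g).obj K}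
    (hψ : VA g ψ) : ∃ n₀ : ℕ, 0 < n₀ ∧ ∀ n : ℕ, n₀ ≤ n →
      VA (f ≫ g) (𝟙 ((Scheme.Modules.pushforward (f ≫ g)).obj
        (CohB1.tensorMod L ((Scheme.Modules.pullback f).obj (CohB1.tensorPow K n))))) := by
  classical
  have key : ∀ (U : Z.Opens) (_ : IsAffineOpen U) (x : X) (_ : x ∈ f ⁻¹ᵁ (g ⁻¹ᵁ U)), ∃ (A : X.Opens) (_ : x ∈ A) (n₀ : ℕ),
      ∀ n, n₀ ≤ n → ∀ x' ∈ A, At (f ≫ g) (𝟙 ((Scheme.Modules.pushforward (f ≫ g)).obj
        (CohB1.tensorMod L ((Scheme.Modules.pullback f).obj (CohB1.tensorPow K n))))) U x' := by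
    intro U hU x hx
    have hYc : IsCompact ((g ⁻¹ᵁ U : Y.Opens) : Set Y) := g.isCompact_preimage hU.isCompact
    have hYs : IsQuasiSeparated ((g ⁻¹ᵁ U : Y.Opens) : Set Y) := g.isQuasiSeparated_preimage hU.isQuasiSeparated
    have hXc : IsCompact ((f ⁻¹ᵁ (g ⁻¹ᵁ U) : X.Opens) : Set X) := f.isCompact_preimage hYc
    have hXs : IsQuasiSeparated ((f ⁻¹ᵁ (g ⁻¹ᵁ U) : X.Opens) : Set X) := f.isQuasiSeparated_preimage hYs
    obtain ⟨m, hm, s, hxs, haff⟩ := exists_affine_nv hK hψ hU hYc hYs (x := f x) hx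
    obtain ⟨eK, hxK, himm⟩ := hψ U hU (f x) hx
    obtain ⟨A, hxA, N, hA⟩ := at_comp hL hK hXc hXs eK hxK himm s haff (hφ _ haff x hxs)
    refine ⟨A, hxA, m * N + m + 1, fun n hn x' hx' => ?_⟩
    obtain ⟨r, rfl⟩ := Nat.exists_eq_add_of_le hn
    obtain ⟨i⟩ := nonempty_twt_iso f hL hK m N r (m * N + m + 1 + r) (by ring)
    exact at_id_iso (hA r x' hx') i
  have key2 : ∀ (U : Z.Opens) (_ : IsAffineOpen U), ∃ (n₀ : ℕ), ∀ n, n₀ ≤ n → ∀ x ∈ f ⁻¹ᵁ (g ⁻¹ᵁ U),
      At (f ≫ g) (𝟙 ((Scheme.Modules.pushforward (f ≫ g)).obj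
        (CohB1.tensorMod L ((Scheme.Modules.pullback f).obj (CohB1.tensorPow K n))))) U x := by
    intro U hU
    have hXc : IsCompact ((f ⁻¹ᵁ (g ⁻¹ᵁ U) : X.Opens) : Set X) := f.isCompact_preimage (g.isCompact_preimage hU.isCompact)
    choose A hxA n₀ hA using fun x : (f ⁻¹ᵁ (g ⁻¹ᵁ U) : X.Opens) => key U hU x.1 x.2
    obtain ⟨I, hI⟩ := hXc.elim_finite_subcover (fun x => (A x : Set X)) (fun x => (A x).2)
      (fun x hx => Set.mem_iUnion.2 ⟨⟨x, hx⟩, hxA ⟨x, hx⟩⟩)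
    refine ⟨I.sup n₀, fun n hn x hx => ?_⟩
    obtain ⟨i, hi⟩ := Set.mem_iUnion.1 (hI hx)
    obtain ⟨hiI, hxi⟩ := Set.mem_iUnion.1 hi
    exact hA i n ((Finset.le_sup hiI).trans hn) x hxi
  choose n₁ hn₁ using fun (z : Z) => key2 _ (Classical.choose_spec
    (exists_isAffineOpen_mem_and_subset (x := z) (U := ⊤) trivial)).1
  have hmem : ∀ z : Z, z ∈ Classical.choose (exists_isAffineOpen_mem_and_subset (x := z) (U := ⊤) trivial) := fun z =>
    (Classical.choose_spec (exists_isAffineOpen_mem_and_subset (x := z) (U := ⊤) trivial)).2.1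
  obtain ⟨I, hI⟩ := (isCompact_univ (X := Z)).elim_finite_subcover
    (fun z : Z => ((Classical.choose (exists_isAffineOpen_mem_and_subset (x := z) (U := ⊤) trivial) : Z.Opens) : Set Z))
    (fun z => (Classical.choose (exists_isAffineOpen_mem_and_subset (x := z) (U := ⊤) trivial) : Z.Opens).2)
    (fun z _ => Set.mem_iUnion.2 ⟨z, hmem z⟩)
  refine ⟨I.sup n₁ + 1, Nat.succ_pos _, fun n hn => ?_⟩
  have hinv : PicF.IsInvertible (CohB1.tensorMod L ((Scheme.Modules.pullback f).obj (CohB1.tensorPow K n))) :=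
    isInvertible_tensorMod hL (isInvertible_pullback f (isInvertible_tensorPow hK n))
  have hq := Groth.Agent.Ega1.QcqsPush.isQCoh_pushforward (f ≫ g) _ (QCohLocal.isQCoh_of_isInvertible hinv)
  refine va_of_cover hq fun x => ?_
  obtain ⟨z, hz⟩ := Set.mem_iUnion.1 (hI (Set.mem_univ (g (f x))))
  obtain ⟨hzI, hxz⟩ := Set.mem_iUnion.1 hz
  exact ⟨_, (Classical.choose_spec (exists_isAffineOpen_mem_and_subset (x := z) (U := ⊤) trivial)).1, hxz,
    hn₁ z n ((Finset.le_sup hzI).trans ((Nat.le_succ _).trans hn)) x hxz⟩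

end K42.VAComp
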