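import Groth.Agent.EGA2.K42.VACompA
import Groth.Agent.Ega2.RelAmpComp

/-!
# Composition for the section-level condition for relative very ampleness
-/

set_option autoImplicit false
universe u
open CategoryTheory CategoryTheory.Limits AlgebraicGeometry TopologicalSpace Opposite

namespace K42.VAComp

open Groth.Agent.Fdesc.LocGen Groth.Agent.Ega2.Nv K43.HomImm K43.VADef Groth.Agent.Ega2 K42.HImmBC

variable {X Y Z : Scheme.{u}}

theorem nv_of_isGen {M : X.Modules} {U : X.Opens} {s : Γ(M, U)} (h : IsGen s) : nv M s = U := by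
  refine le_antisymm (nv_le _ _) ?_
  rw [le_nv_iff M s le_rfl, res_refl]
  exact h

theorem nv_pow_succ {L : X.Modules} (hL : PicF.IsInvertible L) {U : X.Opens} (s : Γ(L, U)) (n : ℕ) :
    nv _ (pow s (n + 1)) = nv L s := by
  induction n with
  | zero =>
    have h1 : nv _ (pow s 1) = nv _ (pow s 0) ⊓ nv L s :=
      VATens.nv_tmul (VATens.locGen_of_isInvertible (isInvertible_tensorPow hL 0) _)
        (VATens.locGen_of_isInvertible hL _) (pow s 0) s
    have h2 : nv _ (pow s 0) = U := nv_of_isGen (isGen_one U)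
    rw [h1, h2]
    exact inf_eq_right.2 (nv_le _ _)
  | succ n ih =>
    have h1 : nv _ (pow s (n + 1 + 1)) = nv _ (pow s (n + 1)) ⊓ nv L s :=
      VATens.nv_tmul (VATens.locGen_of_isInvertible (isInvertible_tensorPow hL (n + 1)) _)
        (VATens.locGen_of_isInvertible hL _) (pow s (n + 1)) s
    rw [h1, ih, inf_idem]

/-- Simultaneous extension of finitely many sections. -/
theorem exists_extend_family (f : X ⟶ Y) {L : X.Modules} (hL : PicF.IsInvertible L) {K : Y.Modules} (hK : PicF.IsInvertible K)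
    {W : Y.Opens} (hc : IsCompact ((f ⁻¹ᵁ W : X.Opens) : Set X)) (hs : IsQuasiSeparated ((f ⁻¹ᵁ W : X.Opens) : Set X))
    (s : Γ(K, W)) {ι : Type*} [Finite ι] (τ : ι → Γ(L, f ⁻¹ᵁ (nv K s))) :
    ∃ (N : ℕ) (σ : ι → Γ(CohB1.tensorMod L (CohB1.tensorPow ((Scheme.Modules.pullback f).obj K) N), f ⁻¹ᵁ W)),
      ∀ i, res _ (f.preimage_mono (nv_le K s)) (σ i) =
        tmul (τ i) (pow (res ((Scheme.Modules.pullback f).obj K) (f.preimage_mono (nv_le K s)) (pullSec f s)) N) := by
  classical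
  cases nonempty_fintype ι
  have hM := isInvertible_pullback f hK
  have hnv : nv ((Scheme.Modules.pullback f).obj K) (pullSec f s) = f ⁻¹ᵁ (nv K s) :=
    RelAmp.nv_pullSec f (VATens.locGen_of_isInvertible hK _) s
  choose n hn using fun i => ExtSec.exists_extend (QCohLocal.isQCoh_of_isInvertible hL) hM hc hs (pullSec f s)
    (res L hnv.le (τ i))
  choose σ hσ using fun i => hn i (Finset.univ.sup n) (Finset.le_sup (Finset.mem_univ i))
  refine ⟨Finset.univ.sup n, σ, fun i => ?_⟩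
  have h1 := congrArg (res _ hnv.ge) (hσ i)
  rw [res_res, res_tmul, res_pow, res_res, res_res, res_refl] at h1
  exact h1

/-- The subring of functions on `T` generated by the functions of the base and by the ratios of sections over `W`. -/
noncomputable def secRing (q : X ⟶ Z) (U : Z.Opens) {M : X.Modules} {W : X.Opens} (u : Γ(M, W)) (T : X.Opens) (hT : T ≤ W)
    (hTU : T ≤ q ⁻¹ᵁ U) : Subring Γ(X, T) :=
  Subring.closure (Set.range (q.appLE U T hTU).hom ∪ {b | ∃ w : Γ(M, W), res M hT w = b • res M hT u})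

/-- The condition for `𝟙 : q_* M ⟶ q_* M` from a section of `M`. -/
theorem at_id {q : X ⟶ Z} {M : X.Modules} {U : Z.Opens} {W : X.Opens} (hW : W = q ⁻¹ᵁ U) (u : Γ(M, W)) {T : X.Opens}
    (hT : T = nv M u) (hTW : T ≤ W) (hTU : T ≤ q ⁻¹ᵁ U) (h : HImm T (secRing q U u T hTW hTU)) {x : X} (hx : x ∈ T) :
    At q (𝟙 ((Scheme.Modules.pushforward q).obj M)) U x := by
  subst hW
  subst hT
  exact ⟨u, hx, h⟩

/-- The twist used for the composition. -/
noncomputable abbrev twt (f : X ⟶ Y) (L : X.Modules) (K : Y.Modules) (m N r : ℕ) : X.Modules :=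
  CohB1.tensorMod (CohB1.tensorMod (CohB1.tensorMod L
    (CohB1.tensorPow ((Scheme.Modules.pullback f).obj (CohB1.tensorPow K m)) N))
      ((Scheme.Modules.pullback f).obj (CohB1.tensorPow K m)))
        (CohB1.tensorPow ((Scheme.Modules.pullback f).obj K) (r + 1))

/-- Main step of the composition theorem. -/
theorem at_comp {f : X ⟶ Y} {g : Y ⟶ Z} [LocallyOfFiniteType f] [QuasiCompact f] {L : X.Modules}
    (hL : PicF.IsInvertible L) {EL : Y.Modules} {φ : EL ⟶ (Scheme.Modules.pushforward f).obj L}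
    {K : Y.Modules} (hK : PicF.IsInvertible K) {EK : Z.Modules} {ψ : EK ⟶ (Scheme.Modules.pushforward g).obj K}
    {U : Z.Opens} (hc : IsCompact ((f ⁻¹ᵁ (g ⁻¹ᵁ U) : X.Opens) : Set X))
    (hs : IsQuasiSeparated ((f ⁻¹ᵁ (g ⁻¹ᵁ U) : X.Opens) : Set X)) {x : X}
    (eK : Γ(EK, U)) (hxK : f x ∈ nz g ψ eK) (himm : HImm (nz g ψ eK) (ratioRing g ψ eK)) {m : ℕ}
    (s : Γ(CohB1.tensorPow K m, g ⁻¹ᵁ U)) (haff : IsAffineOpen (nv _ s)) (h : At f φ (nv _ s) x) :
    ∃ (A : X.Opens) (_ : x ∈ A) (N : ℕ), ∀ r, ∀ x' ∈ A,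
      At (f ≫ g) (𝟙 ((Scheme.Modules.pushforward (f ≫ g)).obj (twt f L K m N r))) U x' := by
  obtain ⟨e, hxe, ι, _, t, v, hv, hvimm⟩ := exists_finite_ratios hL haff h
  have hKm := isInvertible_tensorPow hK m
  have hMm := isInvertible_pullback f hKm
  have hM := isInvertible_pullback f hK
  obtain ⟨N, σ, hσ⟩ := exists_extend_family f hL hKm hc hs s
    (fun i : Option ι => i.elim (se f φ e) (fun i => se f φ (t i)))
  let s' := pullSec f s
  let κ := se g ψ eK
  let κ' := pullSec f κ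
  have hnvs' : nv _ s' = f ⁻¹ᵁ (nv _ s) := RelAmp.nv_pullSec f (VATens.locGen_of_isInvertible hKm _) s
  have hnvκ' : nv _ κ' = f ⁻¹ᵁ (nz g ψ eK) := RelAmp.nv_pullSec f (VATens.locGen_of_isInvertible hK _) κ
  -- generators over the preimage of `V`
  have hgen : IsGen (res _ (f.preimage_mono (nv_le _ s)) s') := by
    rw [← le_nv_iff]; exact hnvs'.ge
  -- the sections extending the ratios
  let P := CohB1.tensorMod (CohB1.tensorMod L (CohB1.tensorPow ((Scheme.Modules.pullback f).obj (CohB1.tensorPow K m)) N))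
    ((Scheme.Modules.pullback f).obj (CohB1.tensorPow K m))
  let σ' : Option ι → Γ(P, f ⁻¹ᵁ (g ⁻¹ᵁ U)) := fun i => tmul (σ i) s'
  have hLN : PicF.IsInvertible (CohB1.tensorMod L (CohB1.tensorPow ((Scheme.Modules.pullback f).obj (CohB1.tensorPow K m)) N)) :=
    isInvertible_tensorMod hL (isInvertible_tensorPow hMm N)
  have hP : PicF.IsInvertible P := isInvertible_tensorMod hLN hMm
  have hσ'nv : nv P (σ' none) = nz f φ e := by
    have h1 : nv P (σ' none) = nv _ (σ none) ⊓ nv _ s' :=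
      VATens.nv_tmul (VATens.locGen_of_isInvertible hLN _) (VATens.locGen_of_isInvertible hMm _) _ _
    have h2 := nv_res _ (σ none) (f.preimage_mono (nv_le _ s))
    rw [hσ none] at h2
    have h3 := VATens.nv_tmul (VATens.locGen_of_isInvertible hL _)
      (VATens.locGen_of_isInvertible (isInvertible_tensorPow hMm N) _) (se f φ e)
      (pow (res _ (f.preimage_mono (nv_le _ s)) s') N)
    rw [nv_of_isGen (hgen.pow N)] at h3
    rw [h1, hnvs', inf_comm, ← h2]
    refine Eq.trans h3 (inf_eq_left.2 (nv_le _ _))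
  have hTX : nz f φ e ≤ f ⁻¹ᵁ (g ⁻¹ᵁ U) := (nz_le f φ e).trans (f.preimage_mono (nv_le _ s))
  have hσ'r : ∀ i, res P hTX (σ' (some i)) = v i • res P hTX (σ' none) := by
    intro i
    have h1 : ∀ j, res _ hTX (σ j) = res _ (nz_le f φ e) (res _ (f.preimage_mono (nv_le _ s)) (σ j)) := fun j =>
      (res_res _ _ _ _).symm
    have h2 : ∀ j, res P hTX (σ' j) = tmul (res _ hTX (σ j)) (res _ hTX s') := fun j => res_tmul _ _ _
    rw [h2, h2, h1, h1, hσ, hσ, res_tmul, res_tmul]
    change tmul (tmul (res L (nz_le f φ e) (se f φ (t i))) _) _ = v i • tmul (tmul (res L (nz_le f φ e) (se f φ e)) _) _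
    rw [hv, smul_tmul, smul_tmul]
  -- the section
  let T' := nz f φ e ⊓ f ⁻¹ᵁ (nz g ψ eK)
  refine ⟨T', ⟨hxe, hxK⟩, N, fun r x' hx' => ?_⟩
  let u : Γ(twt f L K m N r, f ⁻¹ᵁ (g ⁻¹ᵁ U)) := tmul (σ' none) (pow κ' (r + 1))
  have hu : nv _ u = T' := by
    have h1 : nv _ u = nv P (σ' none) ⊓ nv _ (pow κ' (r + 1)) :=
      VATens.nv_tmul (VATens.locGen_of_isInvertible hP _)
        (VATens.locGen_of_isInvertible (isInvertible_tensorPow hM (r + 1)) _) _ _
    rw [h1, hσ'nv, nv_pow_succ hM, hnvκ']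
  have hT1 : T' ≤ nz f φ e := inf_le_left
  have hT2 : T' ≤ f ⁻¹ᵁ (nz g ψ eK) := inf_le_right
  have hT3 : T' ≤ f ⁻¹ᵁ (g ⁻¹ᵁ U) := hT1.trans hTX
  refine at_id (q := f ≫ g) (U := U) (W := f ⁻¹ᵁ (g ⁻¹ᵁ U)) rfl u hu.symm hT3 hT3 ?_ hx'
  have himm2 := VecImm.isImmersion_comp (nz_le f φ e) hvimm hT1 hT2 (ratioRing g ψ eK).subtype himm
  refine HImm.of_hom _ himm2 fun p => ?_
  have hratio : ∀ (w : Γ(twt f L K m N r, f ⁻¹ᵁ (g ⁻¹ᵁ U))) (b : Γ(X, T')),
      res (twt f L K m N r) hT3 w = b • res (twt f L K m N r) hT3 u → b ∈ secRing (f ≫ g) U u T' hT3 hT3 :=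
    fun w b hwb => Subring.subset_closure (Or.inr ⟨w, hwb⟩)
  have hvmem : ∀ i, ores hT1 (v i) ∈ secRing (f ≫ g) U u T' hT3 hT3 := by
    intro i
    refine hratio (tmul (σ' (some i)) (pow κ' (r + 1))) _ ?_
    have h1 := congrArg (res P hT1) (hσ'r i)
    rw [res_smul, res_res, res_res] at h1
    refine (res_tmul (M := P) hT3 (σ' (some i)) (pow κ' (r + 1))).trans ?_
    rw [h1, smul_tmul]
    exact congrArg (fun z => ores hT1 (v i) • z) (res_tmul _ _ _).symm
  have hCmem : ∀ c ∈ ratioRing g ψ eK, (f.appLE (nz g ψ eK) T' hT2).hom c ∈ secRing (f ≫ g) U u T' hT3 hT3 := by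
    intro c hc
    have hcl : ratioRing g ψ eK ≤ (secRing (f ≫ g) U u T' hT3 hT3).comap (f.appLE (nz g ψ eK) T' hT2).hom := by
      refine Subring.closure_le.mpr ?_
      rintro c (⟨a, rfl⟩ | ⟨t', ht'⟩)
      · change (f.appLE (nz g ψ eK) _ hT2).hom (ores (nz_le g ψ eK) (g.app U a)) ∈ secRing (f ≫ g) U u T' hT3 hT3
        have h0 : g.appLE U _ (nz_le g ψ eK) ≫ f.appLE _ _ hT2 = (f ≫ g).appLE U _ hT3 :=
          Scheme.Hom.appLE_comp_appLE _ _ _ _ _ _ _
        have h1 : (f.appLE (nz g ψ eK) _ hT2).hom (ores (nz_le g ψ eK) (g.app U a)) =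
            ((f ≫ g).appLE U _ hT3).hom a := congr(($h0).hom a)
        rw [h1]
        exact Subring.subset_closure (Or.inl ⟨a, rfl⟩)
      · refine hratio (tmul (σ' none) (tmul (pow κ' r) (pullSec f (se g ψ t')))) _ ?_
        have h2 : ∀ z : Γ(K, g ⁻¹ᵁ U), res ((Scheme.Modules.pullback f).obj K) hT3 (pullSec f z) =
            res _ hT2 (pullSec f (res K (nz_le g ψ eK) z)) := by
          intro z
          rw [← res_pullSec]
          exact (res_res _ _ _ _).symm
        have h1 : res _ hT3 (pullSec f (se g ψ t')) = (f.appLE (nz g ψ eK) T' hT2).hom c • res _ hT3 κ' := by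
          rw [h2, ht', pullSec_smul, res_smul, ← h2]
          rfl
        have h3 : res (CohB1.tensorPow ((Scheme.Modules.pullback f).obj K) (r + 1)) hT3 (pow κ' (r + 1)) =
          tmul (res _ hT3 (pow κ' r)) (res _ hT3 κ') := res_tmul _ _ _
        have h4 : res (CohB1.tensorPow ((Scheme.Modules.pullback f).obj K) (r + 1)) hT3
          (tmul (pow κ' r) (pullSec f (se g ψ t'))) =
            (f.appLE (nz g ψ eK) T' hT2).hom c • res _ hT3 (pow κ' (r + 1)) := by
          rw [h3]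
          refine (res_tmul _ _ _).trans ?_
          rw [h1]
          exact tmul_smul _ _ _
        refine (res_tmul _ _ _).trans ?_
        rw [h4, tmul_smul]
        exact congrArg (fun z => (f.appLE (nz g ψ eK) T' hT2).hom c • z) (res_tmul _ _ _).symm
    exact hcl hc
  induction p using MvPolynomial.induction_on with
  | C a =>
    rw [MvPolynomial.eval₂Hom_C]
    exact hCmem a a.2
  | add p q hp hq => rw [map_add]; exact add_mem hp hq
  | mul_X p i hp =>
    rw [map_mul, MvPolynomial.eval₂Hom_X']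
    exact mul_mem hp (hvmem i)

end K42.VAComp
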