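import Groth.Agent.EGA2.K42.DomMap

/-!
# `Proj(φ)` for a graded homomorphism `φ : 𝒜 ⟶ ℬ` on one scheme
-/

set_option autoImplicit false
universe u
open CategoryTheory CategoryTheory.Limits AlgebraicGeometry TopologicalSpace Opposite
open scoped HomogeneousIdeal
noncomputable section

namespace K42.DomHom
open K42.DomQ K42.DomMap

variable {Y : Scheme.{u}} {𝒜 ℬ : RelProj.QCGrAlg Y} {φ : 𝒜.toQCAlg ⟶ ℬ.toQCAlg} (hφ : RelProj.IsGradedHom φ)
  {PA : Scheme.{u}} {pA : PA ⟶ Y}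
  {chartA : ∀ (U : Y.Opens) (hU : IsAffineOpen U), (((pA ⁻¹ᵁ U : PA.Opens) : Scheme.{u}) ≅ Proj (𝒜.deg U hU))}
  {PB : Scheme.{u}} {pB : PB ⟶ Y}
  {chartB : ∀ (U : Y.Opens) (hU : IsAffineOpen U), (((pB ⁻¹ᵁ U : PB.Opens) : Scheme.{u}) ≅ Proj (ℬ.deg U hU))}

theorem presheaf_map_self (ℬ : RelProj.QCGrAlg Y) (U : Y.Opens) (h : U ≤ U) (x : ℬ.presheaf.obj (op U)) :
    (ℬ.presheaf.map (homOfLE h).op).hom x = x := by
  have : (homOfLE h).op = 𝟙 (op U) := rfl
  rw [this, CategoryTheory.Functor.map_id]; rfl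

/-- On a pair `(U, U)` the graded homomorphism of `ofHom φ` is `φ(U)`. -/
theorem gradedAt_ofHom_apply (U : Y.Opens) (hU : IsAffineOpen U) (hle : U ≤ (𝟙 Y) ⁻¹ᵁ U) (x : 𝒜.presheaf.obj (op U)) :
    (RelProj.QGrHom.ofHom φ hφ).gradedAt U hU U hU hle x = (φ.hom.app (op U)).hom x := by
  rw [RelProj.QGrHom.gradedAt_apply]
  change (ℬ.presheaf.map (homOfLE _).op).hom ((φ.hom.app (op U)).hom x) = _
  rw [presheaf_map_self]

theorem gradedAt_ofHom (U : Y.Opens) (hU : IsAffineOpen U) (hle : U ≤ (𝟙 Y) ⁻¹ᵁ U) :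
    (RelProj.QGrHom.ofHom φ hφ).gradedAt U hU U hU hle = RelProj.gradedHomAt φ hφ U hU := by
  ext x; exact gradedAt_ofHom_apply hφ U hU hle x

/-- `G(φ)` over an affine open `U` is `G(φ(U))`. -/
theorem domQ_inf_ofHom (hB : RelProj.IsRelProj ℬ pB chartB) (U : Y.Opens) (hU : IsAffineOpen U) :
    RelProj.domQ (RelProj.QGrHom.ofHom φ hφ) pB chartB ⊓ pB ⁻¹ᵁ U =
      (RelProj.emb pB chartB U hU) ''ᵁ RelCone.domOpen (RelProj.gradedHomAt φ hφ U hU) := by
  rw [domQ_inf (RelProj.QGrHom.ofHom φ hφ) hB U hU U hU le_rfl, gradedAt_ofHom]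

theorem emb_mem_domQ_ofHom_iff (hB : RelProj.IsRelProj ℬ pB chartB) (U : Y.Opens) (hU : IsAffineOpen U)
    (z : Proj (ℬ.deg U hU)) :
    (RelProj.emb pB chartB U hU).base z ∈ RelProj.domQ (RelProj.QGrHom.ofHom φ hφ) pB chartB ↔
      ∃ (d : ℕ) (_ : 0 < d) (f : 𝒜.presheaf.obj (op U)) (_ : f ∈ 𝒜.deg U hU d),
        (φ.hom.app (op U)).hom f ∉ z.asHomogeneousIdeal := by
  rw [emb_mem_domQ_iff (RelProj.QGrHom.ofHom φ hφ) hB U hU U hU le_rfl, gradedAt_ofHom, mem_domOpen_iff]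
  rfl

/-- `Proj(φ)` is everywhere defined when `ℬ` is integral-like generated in high degrees by the image of `φ`:
here in the form "every `b ∈ ℬ_k`, `k ≥ n`, comes from `𝒜_k`" over enough affine opens. -/
theorem domQ_eq_top_of_surj (hB : RelProj.IsRelProj ℬ pB chartB)
    (h : ∀ y : Y, ∃ (U : Y.Opens) (hU : IsAffineOpen U) (n : ℕ), y ∈ U ∧ ∀ k, n ≤ k → ∀ b ∈ ℬ.deg U hU k,
      ∃ a ∈ 𝒜.deg U hU k, (φ.hom.app (op U)).hom a = b) :
    RelProj.domQ (RelProj.QGrHom.ofHom φ hφ) pB chartB = ⊤ := by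
  refine top_le_iff.mp fun x _ => ?_
  obtain ⟨U, hU, n, hy, hs⟩ := h (pB.base x)
  obtain ⟨z, rfl⟩ := exists_emb_eq pB chartB U hU x hy
  rw [emb_mem_domQ_ofHom_iff hφ hB]
  obtain ⟨d, hd, b, hb, hz⟩ := exists_notMem z
  have hb' : b ^ (n + 1) ∈ ℬ.deg U hU ((n + 1) * d) := by
    have := SetLike.pow_mem_graded (n + 1) hb
    rwa [smul_eq_mul] at this
  obtain ⟨a, ha, hab⟩ := hs ((n + 1) * d) (le_trans (Nat.le_succ n) (Nat.le_mul_of_pos_right _ hd)) _ hb'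
  refine ⟨(n + 1) * d, Nat.mul_pos n.succ_pos hd, a, ha, ?_⟩
  rw [hab]
  intro hmem
  exact hz (z.isPrime.mem_of_pow_mem _ hmem)

section everywhere

variable {h : PB ⟶ PA}

/-- An everywhere defined `Proj(φ)`, restricted to `G(φ)`. -/
theorem isProjQMapOn_of_isProjQMap {S S' : Scheme.{u}} {g : S' ⟶ S} {𝒮 : RelProj.QCGrAlg S} {𝒮' : RelProj.QCGrAlg S'}
    {u : RelProj.QGrHom g 𝒮 𝒮'} {P : Scheme.{u}} {p : P ⟶ S}
    {chart : ∀ (U : S.Opens) (hU : IsAffineOpen U), (((p ⁻¹ᵁ U : P.Opens) : Scheme.{u}) ≅ Proj (𝒮.deg U hU))}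
    {P' : Scheme.{u}} {p' : P' ⟶ S'}
    {chart' : ∀ (U' : S'.Opens) (hU' : IsAffineOpen U'), (((p' ⁻¹ᵁ U' : P'.Opens) : Scheme.{u}) ≅ Proj (𝒮'.deg U' hU'))}
    {h : P' ⟶ P} (hh : RelProj.IsProjQMap u p chart p' chart' h) :
    RelProj.IsProjQMapOn u p chart p' chart' (RelProj.domQ u p' chart') ((RelProj.domQ u p' chart').ι ≫ h) := by
  intro U hU U' hU' hle d hd f hf hW
  rw [← Category.assoc, IsOpenImmersion.lift_fac]
  exact hh.2 U hU U' hU' hle d hd f hf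

theorem isIso_ι_of_eq_top {X : Scheme.{u}} {W : X.Opens} (h : W = ⊤) : IsIso W.ι := by
  subst h
  exact (inferInstance : IsIso X.topIso.hom)

/-- A property local on the target holds for `Proj(φ)` if it holds for all `Spec ℬ(U)_(φ f) ⟶ Spec 𝒜(U)_(f)`. -/
theorem of_forall_away {Q : MorphismProperty Scheme.{u}} [IsZariskiLocalAtTarget Q]
    (hA : RelProj.IsRelProj 𝒜 pA chartA) (hB : RelProj.IsRelProj ℬ pB chartB)
    {r : ((RelProj.domQ (RelProj.QGrHom.ofHom φ hφ) pB chartB : PB.Opens) : Scheme.{u}) ⟶ PA}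
    (hr : RelProj.IsProjQMapOn (RelProj.QGrHom.ofHom φ hφ) pA chartA pB chartB
      (RelProj.domQ (RelProj.QGrHom.ofHom φ hφ) pB chartB) r)
    (hQ : ∀ (U : Y.Opens) (hU : IsAffineOpen U) (d : ℕ) (_ : 0 < d) (f : 𝒜.presheaf.obj (op U)) (_ : f ∈ 𝒜.deg U hU d),
      Q (Spec.map (CommRingCat.ofHom (HomogeneousLocalization.Away.map
        ((RelProj.QGrHom.ofHom φ hφ).gradedAt U hU U hU le_rfl) f)))) : Q r := by
  refine of_forall_isPullback r fun y => ?_
  obtain ⟨U, hU, hxU, -⟩ := exists_isAffineOpen_mem_and_subset (x := pA.base y) (U := ⊤) trivial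
  obtain ⟨d, hd, f, hf, hy⟩ := exists_mem_std pA chartA U hU y hxU
  have hP := isPullback (RelProj.QGrHom.ofHom φ hφ) hA hB hr U hU U hU le_rfl le_rfl hd f hf
  refine ⟨_, _, _, _, _, inferInstance, ?_, hP, hQ U hU d hd f hf⟩
  have : y ∈ (aff pA chartA U hU hd f hf).opensRange := by rw [opensRange_aff]; exact hy
  exact this

/-- The same for an everywhere defined `Proj(φ)`. -/
theorem of_forall_away' {Q : MorphismProperty Scheme.{u}} [IsZariskiLocalAtTarget Q]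
    (hA : RelProj.IsRelProj 𝒜 pA chartA) (hB : RelProj.IsRelProj ℬ pB chartB)
    (hh : RelProj.IsProjQMap (RelProj.QGrHom.ofHom φ hφ) pA chartA pB chartB h)
    (hQ : ∀ (U : Y.Opens) (hU : IsAffineOpen U) (d : ℕ) (_ : 0 < d) (f : 𝒜.presheaf.obj (op U)) (_ : f ∈ 𝒜.deg U hU d),
      Q (Spec.map (CommRingCat.ofHom (HomogeneousLocalization.Away.map
        ((RelProj.QGrHom.ofHom φ hφ).gradedAt U hU U hU le_rfl) f)))) : Q h := by
  have := isIso_ι_of_eq_top hh.1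
  have h1 := of_forall_away (Q := Q) hφ hA hB (isProjQMapOn_of_isProjQMap hh) hQ
  rwa [Q.cancel_left_of_respectsIso] at h1

end everywhere

section away

variable {A σ : Type u} [CommRing A] [SetLike σ A] [AddSubgroupClass σ A] {𝒢 : ℕ → σ} [GradedRing 𝒢]
variable {B τ : Type u} [CommRing B] [SetLike τ B] [AddSubgroupClass τ B] {ℋ : ℕ → τ} [GradedRing ℋ] (ψ : 𝒢 →+*ᵍ ℋ)

/-- (TN)-surjective implies surjective on degree-zero localizations. -/
theorem away_map_surjective {n : ℕ} (hs : ∀ k, n ≤ k → ∀ b ∈ ℋ k, ∃ a ∈ 𝒢 k, ψ a = b) {d : ℕ} (hd : 0 < d) {f : A}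
    (hf : f ∈ 𝒢 d) : Function.Surjective (HomogeneousLocalization.Away.map ψ f) := by
  intro q
  obtain ⟨m, b, hb, rfl⟩ := q.mk_surjective _ (ψ.map_mem hf)
  have hb' : b * ψ f ^ n ∈ ℋ ((m + n) • d) := by
    have := SetLike.mul_mem_graded hb (SetLike.pow_mem_graded n (ψ.map_mem hf))
    rwa [← add_smul] at this
  obtain ⟨a, ha, hab⟩ := hs _ (by rw [smul_eq_mul]; exact le_trans (Nat.le_add_left n m) (Nat.le_mul_of_pos_right _ hd)) _ hb'
  refine ⟨HomogeneousLocalization.Away.mk 𝒢 hf (m + n) a ha, ?_⟩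
  rw [HomogeneousLocalization.Away.map_mk]
  apply HomogeneousLocalization.val_injective
  rw [HomogeneousLocalization.Away.val_mk, HomogeneousLocalization.Away.val_mk, Localization.mk_eq_mk_iff,
    Localization.r_iff_exists]
  refine ⟨1, ?_⟩
  change (1 : B) * (ψ f ^ m * ψ a) = 1 * (ψ f ^ (m + n) * b)
  rw [hab, pow_add]; ring

/-- (TN)-injective implies injective on degree-zero localizations. -/
theorem away_map_injective {n : ℕ} (hi : ∀ k, n ≤ k → ∀ a ∈ 𝒢 k, ψ a = 0 → a = 0) {d : ℕ} (hd : 0 < d) {f : A}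
    (hf : f ∈ 𝒢 d) : Function.Injective (HomogeneousLocalization.Away.map ψ f) := by
  rw [injective_iff_map_eq_zero]
  intro q hq
  obtain ⟨m, a, ha, rfl⟩ := q.mk_surjective _ hf
  rw [HomogeneousLocalization.Away.map_mk] at hq
  have h1 := congrArg HomogeneousLocalization.val hq
  rw [HomogeneousLocalization.Away.val_mk, HomogeneousLocalization.val_zero, ← Localization.mk_zero 1,
    Localization.mk_eq_mk_iff, Localization.r_iff_exists] at h1
  obtain ⟨⟨_, k, rfl⟩, hk⟩ := h1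
  have hk' : ψ (f ^ k * a) = 0 := by
    rw [map_mul, map_pow]
    simpa using hk
  have hk2 : f ^ n * (f ^ k * a) = 0 := by
    refine hi ((n + k + m) • d) ?_ _ ?_ (by rw [map_mul, hk', mul_zero])
    · rw [smul_eq_mul]
      exact le_trans (by omega) (Nat.le_mul_of_pos_right (n + k + m) hd)
    · rw [add_smul, add_smul, add_assoc]
      exact SetLike.mul_mem_graded (SetLike.pow_mem_graded n hf)
        (SetLike.mul_mem_graded (SetLike.pow_mem_graded k hf) ha)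
  apply HomogeneousLocalization.val_injective
  rw [HomogeneousLocalization.Away.val_mk, HomogeneousLocalization.val_zero, ← Localization.mk_zero 1,
    Localization.mk_eq_mk_iff, Localization.r_iff_exists]
  refine ⟨⟨f ^ (n + k), n + k, rfl⟩, ?_⟩
  change f ^ (n + k) * (1 * a) = f ^ (n + k) * (f ^ m * 0)
  rw [one_mul, mul_zero, mul_zero, pow_add, mul_assoc, hk2]

end away

end K42.DomHom
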