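import Groth.Prelude.Def_RelProj4

/-!
# The open `domQ` of a graded `g`-morphism, chart by chart, and the morphisms `IsProjQMapOn`
-/

set_option autoImplicit false
universe u
open CategoryTheory CategoryTheory.Limits AlgebraicGeometry TopologicalSpace Opposite
open scoped HomogeneousIdeal
noncomputable section

namespace K42.DomQ

section ring

variable {A σ : Type u} [CommRing A] [SetLike σ A] [AddSubgroupClass σ A] {𝒜 : ℕ → σ} [GradedRing 𝒜]
variable {B τ : Type u} [CommRing B] [SetLike τ B] [AddSubgroupClass τ B] {ℬ : ℕ → τ} [GradedRing ℬ]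
variable {C υ : Type u} [CommRing C] [SetLike υ C] [AddSubgroupClass υ C] {𝒞 : ℕ → υ} [GradedRing 𝒞]

/-- A point of `Proj` has a homogeneous element of positive degree not vanishing at it. -/
theorem exists_homogeneous_notMem_of_not_le {I : Ideal A} {J : Ideal A}
    (hI : I = (HomogeneousIdeal.irrelevant 𝒜).toIdeal) (h : ¬ I ≤ J) :
    ∃ (d : ℕ) (_ : 0 < d) (f : A) (_ : f ∈ 𝒜 d), f ∉ J := by
  classical
  subst hI
  by_contra! hcon
  refine h fun x hx => ?_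
  rw [← DirectSum.sum_support_decompose 𝒜 x]
  refine Ideal.sum_mem _ fun i _ => ?_
  by_cases hi : i = 0
  · subst hi
    have : (DirectSum.decompose 𝒜 x 0 : A) = 0 := (HomogeneousIdeal.mem_irrelevant_iff _ _).mp hx
    rw [this]; exact zero_mem _
  · exact hcon i (Nat.pos_of_ne_zero hi) _ (SetLike.coe_mem _)

theorem exists_notMem (x : Proj 𝒜) :
    ∃ (d : ℕ) (_ : 0 < d) (f : A) (_ : f ∈ 𝒜 d), f ∉ x.asHomogeneousIdeal :=
  exists_homogeneous_notMem_of_not_le (𝒜 := 𝒜) rfl x.not_irrelevant_le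

/-- Membership in `G(ψ)` through homogeneous elements of positive degree. -/
theorem mem_domOpen_iff (ψ : 𝒜 →+*ᵍ ℬ) (x : Proj ℬ) :
    x ∈ RelCone.domOpen ψ ↔
      ∃ (d : ℕ) (_ : 0 < d) (f : A) (_ : f ∈ 𝒜 d), ψ f ∉ x.asHomogeneousIdeal := by
  rw [RelCone.mem_domOpen]
  constructor
  · rintro ⟨f, hf, hx⟩
    refine exists_homogeneous_notMem_of_not_le (𝒜 := 𝒜)
      (J := x.asHomogeneousIdeal.toIdeal.comap ψ.toRingHom) rfl fun hle => hx (hle hf)
  · rintro ⟨d, hd, f, hf, hx⟩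
    exact ⟨f, HomogeneousIdeal.mem_irrelevant_of_mem _ hd hf, hx⟩

theorem domOpen_eq_iSup (ψ : 𝒜 →+*ᵍ ℬ) :
    RelCone.domOpen ψ = ⨆ i : {i : ℕ × A // 0 < i.1 ∧ i.2 ∈ 𝒜 i.1}, Proj.basicOpen ℬ (ψ i.1.2) := by
  ext x
  simp only [SetLike.mem_coe, Opens.mem_iSup, mem_domOpen_iff, Proj.mem_basicOpen]
  constructor
  · rintro ⟨d, hd, f, hf, hx⟩; exact ⟨⟨(d, f), hd, hf⟩, hx⟩
  · rintro ⟨⟨⟨d, f⟩, hd, hf⟩, hx⟩; exact ⟨d, hd, f, hf, hx⟩

theorem basicOpen_le_domOpen (ψ : 𝒜 →+*ᵍ ℬ) {d : ℕ} (hd : 0 < d) {f : A} (hf : f ∈ 𝒜 d) :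
    Proj.basicOpen ℬ (ψ f) ≤ RelCone.domOpen ψ := fun x hx =>
  (mem_domOpen_iff ψ x).mpr ⟨d, hd, f, hf, hx⟩

/-- If the irrelevant ideal of the target is generated by the image, the open of definition is everything. -/
theorem domOpen_eq_top (ψ : 𝒜 →+*ᵍ ℬ) (hψ : ℬ₊ ≤ (𝒜₊).map ψ) : RelCone.domOpen ψ = ⊤ := by
  refine top_le_iff.mp fun x _ => ?_
  rw [RelCone.mem_domOpen]
  by_contra! h
  refine x.not_irrelevant_le (hψ.trans ?_)
  exact HomogeneousIdeal.map_le_of_le_comap _ fun f hf => h f hf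

/-- `G` of a composite with a homomorphism `ρ` out of the target. -/
theorem map_mem_domOpen_iff (ψ : 𝒜 →+*ᵍ ℬ) (ρ : ℬ →+*ᵍ 𝒞) (hρ : 𝒞₊ ≤ (ℬ₊).map ρ) (y : Proj 𝒞) :
    (Proj.map ρ hρ).base y ∈ RelCone.domOpen ψ ↔ y ∈ RelCone.domOpen (ρ.comp ψ) := by
  rw [mem_domOpen_iff, mem_domOpen_iff]
  rfl

/-- `G` does not change under precomposition with a homomorphism whose image generates the irrelevant ideal. -/
theorem domOpen_comp_eq (ρ : 𝒜 →+*ᵍ ℬ) (hρ : ℬ₊ ≤ (𝒜₊).map ρ) (ψ : ℬ →+*ᵍ 𝒞) :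
    RelCone.domOpen (ψ.comp ρ) = RelCone.domOpen ψ := by
  ext y
  rw [SetLike.mem_coe, SetLike.mem_coe, mem_domOpen_iff, RelCone.mem_domOpen]
  constructor
  · rintro ⟨d, hd, f, hf, hy⟩
    exact ⟨ρ f, HomogeneousIdeal.mem_irrelevant_of_mem _ hd (ρ.map_mem hf), hy⟩
  · rintro ⟨f, hf, hy⟩
    by_contra! h
    apply hy
    have h1 : (𝒜₊).map ρ ≤ (y.asHomogeneousIdeal).comap ψ := by
      refine HomogeneousIdeal.map_le_of_le_comap _ ?_
      rw [HomogeneousIdeal.irrelevant_le]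
      intro i hi b hb
      exact h i hi b hb
    exact h1 (hρ hf)

end ring

section charts

variable {S : Scheme.{u}} {𝒮 : RelProj.QCGrAlg S} {P : Scheme.{u}} (p : P ⟶ S)
  (chart : ∀ (U : S.Opens) (hU : IsAffineOpen U), (((p ⁻¹ᵁ U : P.Opens) : Scheme.{u}) ≅ Proj (𝒮.deg U hU)))

/-- The chart immersion over `U` has image `p⁻¹(U)`. -/
theorem opensRange_emb (U : S.Opens) (hU : IsAffineOpen U) :
    (RelProj.emb p chart U hU).opensRange = p ⁻¹ᵁ U := by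
  change ((chart U hU).inv ≫ (p ⁻¹ᵁ U).ι).opensRange = _
  rw [Scheme.Hom.opensRange_comp_of_isIso, Scheme.Opens.opensRange_ι]

theorem emb_mem (U : S.Opens) (hU : IsAffineOpen U) (z : Proj (𝒮.deg U hU)) :
    (RelProj.emb p chart U hU).base z ∈ p ⁻¹ᵁ U := by
  rw [← opensRange_emb p chart U hU]; exact ⟨z, rfl⟩

theorem exists_emb_eq (U : S.Opens) (hU : IsAffineOpen U) (x : P) (hx : x ∈ p ⁻¹ᵁ U) :
    ∃ z : Proj (𝒮.deg U hU), (RelProj.emb p chart U hU).base z = x := by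
  rw [← opensRange_emb p chart U hU] at hx; exact hx

theorem emb_injective (U : S.Opens) (hU : IsAffineOpen U) :
    Function.Injective (RelProj.emb p chart U hU).base :=
  (RelProj.emb p chart U hU).isOpenEmbedding.injective

theorem image_emb_le (U : S.Opens) (hU : IsAffineOpen U) (W : (Proj (𝒮.deg U hU)).Opens) :
    (RelProj.emb p chart U hU) ''ᵁ W ≤ p ⁻¹ᵁ U := by
  rintro _ ⟨z, -, rfl⟩; exact emb_mem p chart U hU z

variable {p chart}

/-- The chart lies over `U`. -/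
theorem emb_comp_p (hP : RelProj.IsRelProj 𝒮 p chart) (U : S.Opens) (hU : IsAffineOpen U) :
    RelProj.emb p chart U hU ≫ p =
      Proj.toSpecZero (𝒮.deg U hU) ≫ Spec.map (𝒮.strZero U hU) ≫ hU.fromSpec := by
  rw [RelProj.emb, Category.assoc, ← hP.chart_over U hU, Iso.inv_hom_id_assoc]

/-- The inclusion of the chart over a basic open, pointwise. -/
theorem emb_map_res_apply (hP : RelProj.IsRelProj 𝒮 p chart) (U : S.Opens) (hU : IsAffineOpen U) (r : Γ(S, U))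
    (y : Proj (𝒮.deg (S.basicOpen r) (hU.basicOpen r))) :
    (RelProj.emb p chart U hU).base ((Proj.map (𝒮.res hU (hU.basicOpen r) (S.basicOpen_le r))
      (𝒮.irrelevant_le_map U hU r)).base y) = (RelProj.emb p chart (S.basicOpen r) (hU.basicOpen r)).base y := by
  rw [← RelProj.map_res_emb hP U hU r]; rfl

end charts

section dom

variable {S S' : Scheme.{u}} {g : S' ⟶ S} {𝒮 : RelProj.QCGrAlg S} {𝒮' : RelProj.QCGrAlg S'} (u : RelProj.QGrHom g 𝒮 𝒮')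
  {P' : Scheme.{u}} (p' : P' ⟶ S')
  (chart' : ∀ (U' : S'.Opens) (hU' : IsAffineOpen U'), (((p' ⁻¹ᵁ U' : P'.Opens) : Scheme.{u}) ≅ Proj (𝒮'.deg U' hU')))

/-- The part of `G(u)` coming from one affine pair. -/
def part (U : S.Opens) (hU : IsAffineOpen U) (U' : S'.Opens) (hU' : IsAffineOpen U') (hle : U' ≤ g ⁻¹ᵁ U) : P'.Opens :=
  (RelProj.emb p' chart' U' hU') ''ᵁ RelCone.domOpen (u.gradedAt U hU U' hU' hle)

theorem emb_mem_part_iff (U : S.Opens) (hU : IsAffineOpen U) (U' : S'.Opens) (hU' : IsAffineOpen U')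
    (hle : U' ≤ g ⁻¹ᵁ U) (z : Proj (𝒮'.deg U' hU')) :
    (RelProj.emb p' chart' U' hU').base z ∈ part u p' chart' U hU U' hU' hle ↔
      z ∈ RelCone.domOpen (u.gradedAt U hU U' hU' hle) := by
  constructor
  · rintro ⟨w, hw, he⟩
    rwa [← emb_injective p' chart' U' hU' he]
  · intro h; exact ⟨z, h, rfl⟩

variable {p' chart'}

/-- Shrinking the open of the source of `g` to a basic open. -/
theorem mem_part_basicOpen_iff (hP' : RelProj.IsRelProj 𝒮' p' chart') (U : S.Opens) (hU : IsAffineOpen U)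
    (U' : S'.Opens) (hU' : IsAffineOpen U') (hle : U' ≤ g ⁻¹ᵁ U) (V' : S'.Opens) (hV' : IsAffineOpen V')
    (r' : Γ(S', U')) (e : V' = S'.basicOpen r') (hle' : V' ≤ g ⁻¹ᵁ U) (x : P') (hx : x ∈ p' ⁻¹ᵁ V') :
    x ∈ part u p' chart' U hU V' hV' hle' ↔ x ∈ part u p' chart' U hU U' hU' hle := by
  subst e
  obtain ⟨y, rfl⟩ := exists_emb_eq p' chart' _ hV' x hx
  rw [emb_mem_part_iff]
  rw [← emb_map_res_apply hP' U' hU' r' y, emb_mem_part_iff]
  rw [map_mem_domOpen_iff]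
  have e : ((𝒮'.res hU' (hU'.basicOpen r') (S'.basicOpen_le r')).comp (u.gradedAt U hU U' hU' hle)) =
      u.gradedAt U hU (S'.basicOpen r') hV' hle' := by
    ext a
    change (𝒮'.presheaf.map (homOfLE (S'.basicOpen_le r')).op).hom ((u.appLE U U' hle).hom a) = (u.appLE U _ hle').hom a
    rw [← CommRingCat.comp_apply, u.toQHom.appLE_map]
  rw [e]

/-- Shrinking the open of the target of `g` to a basic open. -/
theorem part_basicOpen_eq (U : S.Opens) (hU : IsAffineOpen U)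
    (U' : S'.Opens) (hU' : IsAffineOpen U') (hle : U' ≤ g ⁻¹ᵁ U) (V : S.Opens) (hV : IsAffineOpen V)
    (r : Γ(S, U)) (e : V = S.basicOpen r) (hle' : U' ≤ g ⁻¹ᵁ V) :
    part u p' chart' V hV U' hU' hle' = part u p' chart' U hU U' hU' hle := by
  subst e
  have e : ((u.gradedAt (S.basicOpen r) hV U' hU' hle').comp (𝒮.res hU (hU.basicOpen r) (S.basicOpen_le r))) =
      u.gradedAt U hU U' hU' hle := by
    ext a
    change (u.appLE _ U' hle').hom ((𝒮.presheaf.map (homOfLE (S.basicOpen_le r)).op).hom a) = (u.appLE U _ hle).hom a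
    rw [← CommRingCat.comp_apply, u.toQHom.map_appLE]
  rw [part, part, ← e, domOpen_comp_eq _ (𝒮.irrelevant_le_map U hU r)]

/-- The parts of `G(u)` agree on overlaps. -/
theorem mem_part_iff (hP' : RelProj.IsRelProj 𝒮' p' chart') (U : S.Opens) (hU : IsAffineOpen U)
    (U' : S'.Opens) (hU' : IsAffineOpen U') (hle : U' ≤ g ⁻¹ᵁ U)
    (W : S.Opens) (hW : IsAffineOpen W)
    (W' : S'.Opens) (hW' : IsAffineOpen W') (hleW : W' ≤ g ⁻¹ᵁ W) (x : P') (hx : x ∈ p' ⁻¹ᵁ U') (hxW : x ∈ p' ⁻¹ᵁ W') :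
    x ∈ part u p' chart' U hU U' hU' hle ↔ x ∈ part u p' chart' W hW W' hW' hleW := by
  have hs : g.base (p'.base x) ∈ U ⊓ W := ⟨hle hx, hleW hxW⟩
  obtain ⟨a, b, hab, hsa⟩ := exists_basicOpen_le_affine_inter hU hW _ hs
  obtain ⟨a', ha', hxa'⟩ := hU'.exists_basicOpen_le (V := g ⁻¹ᵁ S.basicOpen a) ⟨p'.base x, hsa⟩ hx
  obtain ⟨b', hb', hxb'⟩ := hW'.exists_basicOpen_le (V := g ⁻¹ᵁ S.basicOpen a) ⟨p'.base x, hsa⟩ hxW
  obtain ⟨c, d, hcd, hxc⟩ := exists_basicOpen_le_affine_inter (hU'.basicOpen a') (hW'.basicOpen b') (p'.base x)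
    ⟨hxa', hxb'⟩
  have l1 : S'.basicOpen a' ≤ g ⁻¹ᵁ U := (S'.basicOpen_le a').trans hle
  have l2 : S'.basicOpen b' ≤ g ⁻¹ᵁ W := (S'.basicOpen_le b').trans hleW
  have l3 : S'.basicOpen c ≤ g ⁻¹ᵁ S.basicOpen a := (S'.basicOpen_le c).trans ha'
  rw [← mem_part_basicOpen_iff u hP' U hU U' hU' hle (S'.basicOpen a') (hU'.basicOpen a') a' rfl l1 x hxa',
    ← part_basicOpen_eq u U hU (S'.basicOpen a') (hU'.basicOpen a') l1 (S.basicOpen a) (hU.basicOpen a) a rfl ha',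
    ← mem_part_basicOpen_iff u hP' (S.basicOpen a) (hU.basicOpen a) (S'.basicOpen a') (hU'.basicOpen a') ha'
      (S'.basicOpen c) ((hU'.basicOpen a').basicOpen c) c rfl l3 x hxc,
    mem_part_basicOpen_iff u hP' (S.basicOpen a) (hU.basicOpen a) (S'.basicOpen b') (hW'.basicOpen b') hb'
      (S'.basicOpen c) ((hU'.basicOpen a').basicOpen c) d hcd l3 x hxc,
    part_basicOpen_eq u W hW (S'.basicOpen b') (hW'.basicOpen b') l2 (S.basicOpen a) (hU.basicOpen a) b hab hb',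
    mem_part_basicOpen_iff u hP' W hW W' hW' hleW (S'.basicOpen b') (hW'.basicOpen b') b' rfl l2 x hxb']

/-- **`G(u)` chart by chart**: over the second member of any affine pair, `G(u)` is the part coming from that pair. -/
theorem domQ_inf (hP' : RelProj.IsRelProj 𝒮' p' chart') (U : S.Opens) (hU : IsAffineOpen U)
    (U' : S'.Opens) (hU' : IsAffineOpen U') (hle : U' ≤ g ⁻¹ᵁ U) :
    RelProj.domQ u p' chart' ⊓ p' ⁻¹ᵁ U' =
      (RelProj.emb p' chart' U' hU') ''ᵁ RelCone.domOpen (u.gradedAt U hU U' hU' hle) := by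
  apply le_antisymm
  · rintro x ⟨hx, hxU⟩
    obtain ⟨⟨⟨⟨W, hW⟩, ⟨W', hW'⟩⟩, hleW⟩, hxW⟩ := Opens.mem_iSup.mp hx
    exact (mem_part_iff u hP' U hU U' hU' hle W hW W' hW' hleW x hxU
      (image_emb_le p' chart' W' hW' _ hxW)).mpr hxW
  · refine le_inf ?_ (image_emb_le p' chart' U' hU' _)
    intro x hx
    exact Opens.mem_iSup.mpr ⟨⟨(⟨U, hU⟩, ⟨U', hU'⟩), hle⟩, hx⟩

theorem emb_mem_domQ_iff (hP' : RelProj.IsRelProj 𝒮' p' chart') (U : S.Opens) (hU : IsAffineOpen U)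
    (U' : S'.Opens) (hU' : IsAffineOpen U') (hle : U' ≤ g ⁻¹ᵁ U) (z : Proj (𝒮'.deg U' hU')) :
    (RelProj.emb p' chart' U' hU').base z ∈ RelProj.domQ u p' chart' ↔
      z ∈ RelCone.domOpen (u.gradedAt U hU U' hU' hle) := by
  rw [← emb_mem_part_iff u p' chart', part, ← domQ_inf u hP' U hU U' hU' hle]
  exact ⟨fun h => ⟨h, emb_mem p' chart' U' hU' z⟩, fun h => h.1⟩

theorem emb_preimage_domQ (hP' : RelProj.IsRelProj 𝒮' p' chart') (U : S.Opens) (hU : IsAffineOpen U)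
    (U' : S'.Opens) (hU' : IsAffineOpen U') (hle : U' ≤ g ⁻¹ᵁ U) :
    (RelProj.emb p' chart' U' hU') ⁻¹ᵁ RelProj.domQ u p' chart' =
      RelCone.domOpen (u.gradedAt U hU U' hU' hle) := by
  ext z; exact emb_mem_domQ_iff u hP' U hU U' hU' hle z

/-- Every point of `P'` lies over the second member of an affine pair. -/
theorem exists_affinePair (g : S' ⟶ S) (s' : S') :
    ∃ (U : S.Opens) (_ : IsAffineOpen U) (U' : S'.Opens) (_ : IsAffineOpen U') (_ : U' ≤ g ⁻¹ᵁ U), s' ∈ U' := by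
  obtain ⟨U, hU, hxU, -⟩ := exists_isAffineOpen_mem_and_subset (x := g.base s') (U := ⊤) trivial
  obtain ⟨U', hU', hxU', hle⟩ := exists_isAffineOpen_mem_and_subset (x := s') (U := g ⁻¹ᵁ U) hxU
  exact ⟨U, hU, U', hU', hle, hxU'⟩

/-- To check `G(u) = ⊤` it suffices to look at enough affine pairs. -/
theorem domQ_eq_top (hP' : RelProj.IsRelProj 𝒮' p' chart')
    (h : ∀ s' : S', ∃ (U : S.Opens) (hU : IsAffineOpen U) (U' : S'.Opens) (hU' : IsAffineOpen U') (hle : U' ≤ g ⁻¹ᵁ U),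
      s' ∈ U' ∧ RelCone.domOpen (u.gradedAt U hU U' hU' hle) = ⊤) : RelProj.domQ u p' chart' = ⊤ := by
  refine top_le_iff.mp fun x _ => ?_
  obtain ⟨U, hU, U', hU', hle, hx, htop⟩ := h (p'.base x)
  obtain ⟨z, rfl⟩ := exists_emb_eq p' chart' U' hU' x hx
  rw [emb_mem_domQ_iff u hP' U hU U' hU' hle, htop]
  trivial

end dom

end K42.DomQ
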