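import Groth.Agent.EGA2.K42.DomHom

/-!
# The standard opens of a relative Proj form a basis; dominance of `Proj(u)` in terms of nilpotence
-/

set_option autoImplicit false
universe u
open CategoryTheory CategoryTheory.Limits AlgebraicGeometry TopologicalSpace Opposite
open scoped HomogeneousIdeal
noncomputable section

namespace K42.Dominant
open K42.DomQ K42.DomMap

section ring

variable {A σ : Type u} [CommRing A] [SetLike σ A] [AddSubgroupClass σ A] {𝒜 : ℕ → σ} [GradedRing 𝒜]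

/-- `D_+(f) = ∅` implies `f` nilpotent, for `f` homogeneous of positive degree. -/
theorem isNilpotent_of_basicOpen_eq_bot {d : ℕ} (hd : 0 < d) {f : A} (hf : f ∈ 𝒜 d)
    (h : Proj.basicOpen 𝒜 f = ⊥) : IsNilpotent f := by
  have hE : IsEmpty (Spec (CommRingCat.of (HomogeneousLocalization.Away 𝒜 f))) := by
    constructor
    intro x
    have h1 : (Proj.awayι 𝒜 f hf hd) x ∈ (Proj.awayι 𝒜 f hf hd).opensRange := ⟨x, rfl⟩
    rw [Proj.opensRange_awayι, h] at h1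
    exact h1
  have h2 : Subsingleton (HomogeneousLocalization.Away 𝒜 f) := by
    have : IsEmpty (PrimeSpectrum (HomogeneousLocalization.Away 𝒜 f)) := hE
    exact not_nontrivial_iff_subsingleton.1 fun _ => this.false (Classical.arbitrary _)
  have h3 : (1 : HomogeneousLocalization.Away 𝒜 f) = 0 := Subsingleton.elim _ _
  have h4 : (1 : Localization.Away f) = 0 := by
    have := congrArg HomogeneousLocalization.val h3
    rwa [HomogeneousLocalization.val_one, HomogeneousLocalization.val_zero] at this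
  have h5 : algebraMap A (Localization.Away f) 1 = algebraMap A (Localization.Away f) 0 := by
    rw [map_one, map_zero, h4]
  obtain ⟨⟨c, n, rfl⟩, hc⟩ := (IsLocalization.eq_iff_exists (Submonoid.powers f) _).1 h5
  refine ⟨n, ?_⟩
  simpa using hc

theorem basicOpen_eq_bot_iff {d : ℕ} (hd : 0 < d) {f : A} (hf : f ∈ 𝒜 d) :
    Proj.basicOpen 𝒜 f = ⊥ ↔ IsNilpotent f := by
  refine ⟨isNilpotent_of_basicOpen_eq_bot hd hf, ?_⟩
  rintro ⟨n, hn⟩
  refine le_bot_iff.mp fun x hx => hx ?_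
  exact x.isPrime.mem_of_pow_mem n (hn ▸ zero_mem _)

theorem exists_mem_basicOpen_of_not_isNilpotent {d : ℕ} (hd : 0 < d) {f : A} (hf : f ∈ 𝒜 d) (h : ¬ IsNilpotent f) :
    ∃ x : Proj 𝒜, f ∉ x.asHomogeneousIdeal := by
  by_contra! hcon
  exact h ((basicOpen_eq_bot_iff hd hf).mp (le_bot_iff.mp fun x hx => hx (hcon x)))

/-- The `D_+(f)`, `f` homogeneous of positive degree, form a basis of `Proj`. -/
theorem exists_basicOpen_le (x : Proj 𝒜) (W : (Proj 𝒜).Opens) (hx : x ∈ W) :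
    ∃ (d : ℕ) (_ : 0 < d) (f : A) (_ : f ∈ 𝒜 d), f ∉ x.asHomogeneousIdeal ∧ Proj.basicOpen 𝒜 f ≤ W := by
  classical
  obtain ⟨_, ⟨_, ⟨s, rfl⟩, rfl⟩, hxs, hs⟩ :=
    (Proj.isBasis_basicOpen 𝒜).exists_subset_of_mem_open hx W.isOpen
  change x ∈ Proj.basicOpen 𝒜 s at hxs
  rw [Proj.basicOpen_eq_iSup_proj, Opens.mem_iSup] at hxs
  obtain ⟨i, hi⟩ := hxs
  obtain ⟨d, hd, f, hf, hxf⟩ := exists_notMem x
  have hle : Proj.basicOpen 𝒜 (GradedRing.proj 𝒜 i s) ≤ W := by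
    refine le_trans ?_ (show Proj.basicOpen 𝒜 s ≤ W from hs)
    rw [Proj.basicOpen_eq_iSup_proj 𝒜 s]
    exact le_iSup (fun i => Proj.basicOpen 𝒜 (GradedRing.proj 𝒜 i s)) i
  refine ⟨i + d, Nat.add_pos_right i hd, GradedRing.proj 𝒜 i s * f,
    SetLike.mul_mem_graded (by rw [GradedRing.proj_apply]; exact SetLike.coe_mem _) hf, ?_, ?_⟩
  · intro hmem
    rcases x.isPrime.mem_or_mem hmem with h | h
    · exact hi h
    · exact hxf h
  · rw [Proj.basicOpen_mul]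
    exact inf_le_left.trans hle

end ring

section

variable {S S' : Scheme.{u}} {g : S' ⟶ S} {𝒮 : RelProj.QCGrAlg S} {𝒮' : RelProj.QCGrAlg S'} (u : RelProj.QGrHom g 𝒮 𝒮')
  {P : Scheme.{u}} (p : P ⟶ S)
  (chart : ∀ (U : S.Opens) (hU : IsAffineOpen U), (((p ⁻¹ᵁ U : P.Opens) : Scheme.{u}) ≅ Proj (𝒮.deg U hU)))
  {P' : Scheme.{u}} {p' : P' ⟶ S'}
  {chart' : ∀ (U' : S'.Opens) (hU' : IsAffineOpen U'), (((p' ⁻¹ᵁ U' : P'.Opens) : Scheme.{u}) ≅ Proj (𝒮'.deg U' hU'))}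

/-- The standard opens over `U` form a basis of `p⁻¹(U)`. -/
theorem exists_std_le (U : S.Opens) (hU : IsAffineOpen U) (x : P) (hxU : x ∈ p ⁻¹ᵁ U) (W : P.Opens) (hx : x ∈ W) :
    ∃ (d : ℕ) (_ : 0 < d) (f : 𝒮.presheaf.obj (op U)) (_ : f ∈ 𝒮.deg U hU d),
      x ∈ std p chart U hU f ∧ std p chart U hU f ≤ W := by
  obtain ⟨z, rfl⟩ := exists_emb_eq p chart U hU x hxU
  obtain ⟨d, hd, f, hf, hz, hle⟩ := exists_basicOpen_le z (RelProj.emb p chart U hU ⁻¹ᵁ W) hx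
  refine ⟨d, hd, f, hf, (emb_mem_std_iff U hU f z).mpr hz, ?_⟩
  rintro _ ⟨w, hw, rfl⟩
  exact hle hw

variable {p chart}

/-- **Dominance of `Proj(u)`**: it suffices to test on a family of affine opens covering `S` and the homogeneous elements of
positive degree over them. -/
theorem isDominant_iff (hP : RelProj.IsRelProj 𝒮 p chart) (hP' : RelProj.IsRelProj 𝒮' p' chart')
    {r : ((RelProj.domQ u p' chart' : P'.Opens) : Scheme.{u}) ⟶ P}
    (hr : RelProj.IsProjQMapOn u p chart p' chart' (RelProj.domQ u p' chart') r)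
    (𝒞 : Set S.affineOpens) (h𝒞 : ∀ s : S, ∃ U ∈ 𝒞, s ∈ (U : S.Opens)) :
    IsDominant r ↔
      ∀ U ∈ 𝒞, ∀ (d : ℕ) (_ : 0 < d) (f : 𝒮.presheaf.obj (op U.1)) (_ : f ∈ 𝒮.deg U.1 U.2 d),
        (∀ (U' : S'.Opens) (hU' : IsAffineOpen U') (hle : U' ≤ g ⁻¹ᵁ U.1), IsNilpotent (u.gradedAt U.1 U.2 U' hU' hle f)) →
          IsNilpotent f := by
  constructor
  · intro hdom U _ d hd f hf hnil
    by_contra hcon
    obtain ⟨z, hz⟩ := exists_mem_basicOpen_of_not_isNilpotent hd hf hcon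
    obtain ⟨x, hx⟩ := hdom.denseRange.exists_mem_open (std p chart U.1 U.2 f).isOpen
      ⟨_, (emb_mem_std_iff U.1 U.2 f z).mpr hz⟩
    have hxU : (x : ((RelProj.domQ u p' chart' : P'.Opens) : Scheme.{u})) ∈
        (RelProj.domQ u p' chart').ι ⁻¹ᵁ (p' ⁻¹ᵁ (g ⁻¹ᵁ U.1)) := by
      rw [← preimage_p u hP hP' hr]
      exact std_le U.1 U.2 f hx
    obtain ⟨U', hU', hxU', hle⟩ := exists_isAffineOpen_mem_and_subset (x := p'.base x.1) (U := g ⁻¹ᵁ U.1) hxU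
    have h1 : x ∈ (RelProj.domQ u p' chart').ι ⁻¹ᵁ std p' chart' U' hU' (u.gradedAt U.1 U.2 U' hU' hle f) := by
      rw [← preimage_std_inf hr hP' U.1 U.2 U' hU' hle hd f hf]
      exact ⟨hx, hxU'⟩
    obtain ⟨w, hw, -⟩ := h1
    obtain ⟨n, hn⟩ := hnil U' hU' hle
    exact hw (w.isPrime.mem_of_pow_mem n (hn ▸ zero_mem _))
  · intro H
    refine ⟨?_⟩
    rw [DenseRange, dense_iff_inter_open]
    rintro O hO ⟨y, hy⟩
    obtain ⟨U, hU𝒞, hyU⟩ := h𝒞 (p.base y)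
    obtain ⟨d, hd, f, hf, hyf, hle⟩ := exists_std_le p chart U.1 U.2 y hyU ⟨O, hO⟩ hy
    have hnf : ¬ IsNilpotent f := by
      obtain ⟨z, hz, -⟩ := hyf
      rintro ⟨n, hn⟩
      exact hz (z.isPrime.mem_of_pow_mem n (hn ▸ zero_mem _))
    have h1 : ¬ ∀ (U' : S'.Opens) (hU' : IsAffineOpen U') (hle : U' ≤ g ⁻¹ᵁ U.1),
      IsNilpotent (u.gradedAt U.1 U.2 U' hU' hle f) := fun h => hnf (H U hU𝒞 d hd f hf h)
    push Not at h1
    obtain ⟨U', hU', hle', hn⟩ := h1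
    obtain ⟨z, hz⟩ := exists_mem_basicOpen_of_not_isNilpotent hd ((u.gradedAt U.1 U.2 U' hU' hle').map_mem hf) hn
    have hz' : (RelProj.emb p' chart' U' hU').base z ∈ std p' chart' U' hU' (u.gradedAt U.1 U.2 U' hU' hle' f) :=
      (emb_mem_std_iff U' hU' _ z).mpr hz
    have hzd := std_le_domQ u U.1 U.2 U' hU' hle' hd f hf hz'
    refine ⟨r.base ⟨_, hzd⟩, hle ?_, ⟨_, rfl⟩⟩
    exact apply_mem_std hr U.1 U.2 U' hU' hle' hd f hf ⟨_, hzd⟩ hz'

end

end K42.Dominant
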