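import Groth.Agent.EGA2.K43.VADef
import Groth.Agent.Ega2.ExtCoeff
import Groth.Agent.Ega2.AmpleTransfer

/-!
# Pointwise criterion for `HImm`, and a finiteness statement

* `himm_iff`: `HImm T B` iff every point of `T` lies in an affine `X_b`, `b ∈ B`, whose functions are fractions `b' / b^n`.
* `HImm.exists_finite`: for `T` quasi-compact and of finite type over an affine `V`, finitely many elements of `B` suffice.
-/

set_option autoImplicit false
universe u
open CategoryTheory CategoryTheory.Limits AlgebraicGeometry TopologicalSpace Opposite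

namespace K42.HImmFin

open Groth.Agent.Fdesc.LocGen K43.HomImm Groth.Agent.Ega2.ExtCoeff

variable {X : Scheme.{u}}

/-- Elements of `R` as functions on an open of `Spec R`. -/
noncomputable def sc (R : Type u) [CommRing R] (D : (Spec (CommRingCat.of R)).Opens) :
    R →+* Γ(Spec (CommRingCat.of R), D) :=
  ((Scheme.ΓSpecIso (CommRingCat.of R)).inv ≫ (Spec (CommRingCat.of R)).presheaf.map (homOfLE le_top).op).hom

theorem mor_app {W : X.Opens} {R : Type u} [CommRing R] (ρ : R →+* Γ(X, W)) (D : (Spec (CommRingCat.of R)).Opens) (c : R)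
    (h : W.ι ''ᵁ (mor W ρ ⁻¹ᵁ D) ≤ W) :
    (mor W ρ).app D (sc R D c) = (ores h (ρ c) : Γ(X, W.ι ''ᵁ (mor W ρ ⁻¹ᵁ D))) := by
  have h1 : (Scheme.ΓSpecIso (CommRingCat.of R)).inv ≫ (mor W ρ).appTop = CommRingCat.ofHom ρ ≫ W.topIso.inv := by
    rw [mor, Scheme.Hom.comp_appTop, ← Scheme.ΓSpecIso_inv_naturality_assoc, Scheme.Opens.toSpecΓ_appTop,
      Iso.inv_hom_id_assoc]
  have h2 := (mor W ρ).naturality (homOfLE (le_top : D ≤ ⊤)).op
  have h3 := congr(($h2).hom ((Scheme.ΓSpecIso (CommRingCat.of R)).inv.hom c))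
  have h4 := congr(($h1).hom c)
  refine Eq.trans h3 ?_
  change (W : Scheme.{u}).presheaf.map _ ((mor W ρ).appTop ((Scheme.ΓSpecIso (CommRingCat.of R)).inv.hom c)) = _
  have h5 : (mor W ρ).appTop ((Scheme.ΓSpecIso (CommRingCat.of R)).inv.hom c) = W.topIso.inv (ρ c) := h4
  rw [h5]
  have h6 : W.topIso.inv ≫ (W : Scheme.{u}).presheaf.map (homOfLE (le_top : mor W ρ ⁻¹ᵁ D ≤ ⊤)).op =
      X.presheaf.map (homOfLE h).op := by
    rw [Scheme.Opens.topIso_inv, Scheme.Opens.toScheme_presheaf_map]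
    exact (X.presheaf.map_comp _ _).symm
  exact congr(($h6).hom (ρ c))

theorem mor_preimage_basicOpen {W : X.Opens} {R : Type u} [CommRing R] (ρ : R →+* Γ(X, W)) (c : R) :
    mor W ρ ⁻¹ᵁ (PrimeSpectrum.basicOpen c) = W.ι ⁻¹ᵁ (X.basicOpen (ρ c)) := by
  rw [mor, Scheme.Hom.comp_preimage]
  have h : Spec.map (CommRingCat.ofHom ρ) ⁻¹ᵁ (PrimeSpectrum.basicOpen c) =
      (PrimeSpectrum.basicOpen (ρ c) : (Spec Γ(X, W)).Opens) := rfl
  rw [h, Scheme.Opens.toSpecΓ_preimage_basicOpen]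

theorem isUnit_sc {R : Type u} [CommRing R] (b : R) :
    IsUnit (sc R (PrimeSpectrum.basicOpen b) b) := by
  have h1 : (Spec (CommRingCat.of R)).basicOpen ((Scheme.ΓSpecIso (CommRingCat.of R)).inv b) =
      PrimeSpectrum.basicOpen b := basicOpen_eq_of_affine (R := CommRingCat.of R) b
  have h2 := RingedSpace.isUnit_res_basicOpen (Spec (CommRingCat.of R)).toRingedSpace
    ((Scheme.ΓSpecIso (CommRingCat.of R)).inv b)
  have h3 := h2.map ((Spec (CommRingCat.of R)).presheaf.map (homOfLE h1.ge).op).hom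
  have h4 : (Spec (CommRingCat.of R)).presheaf.map (homOfLE ((Spec (CommRingCat.of R)).basicOpen_le
      ((Scheme.ΓSpecIso (CommRingCat.of R)).inv b))).op ≫ (Spec (CommRingCat.of R)).presheaf.map (homOfLE h1.ge).op =
      (Spec (CommRingCat.of R)).presheaf.map (homOfLE le_top).op := by
    rw [← Functor.map_comp]; rfl
  have h5 := congr(($h4).hom ((Scheme.ΓSpecIso (CommRingCat.of R)).inv b))
  have h6 : (sc R (PrimeSpectrum.basicOpen b) b) = ((Spec (CommRingCat.of R)).presheaf.map (homOfLE h1.ge).op).hom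
    ((Spec (CommRingCat.of R)).presheaf.map (homOfLE ((Spec (CommRingCat.of R)).basicOpen_le
      ((Scheme.ΓSpecIso (CommRingCat.of R)).inv b))).op ((Scheme.ΓSpecIso (CommRingCat.of R)).inv b)) := h5.symm
  rw [h6]
  exact h3

/-- `b ∈ B`, `X_b` is affine and its functions are fractions with numerator in `B` and denominator a power of `b`. -/
def Good {T : X.Opens} (B : Subring Γ(X, T)) (b : Γ(X, T)) : Prop :=
  b ∈ B ∧ IsAffineOpen (X.basicOpen b) ∧ ∀ g : Γ(X, X.basicOpen b), ∃ (n : ℕ), ∃ c ∈ B,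
    ores (X.basicOpen_le b) c = ores (X.basicOpen_le b) b ^ n * g

theorem ores_injective_of_eq {U V : X.Opens} (h : V = U) : Function.Injective (ores h.le : Γ(X, U) → Γ(X, V)) := by
  subst h
  intro a b hab
  simpa using hab

theorem himm_of_good {T : X.Opens} {B : Subring Γ(X, T)} (h : ∀ x ∈ T, ∃ b, x ∈ X.basicOpen b ∧ Good B b) : HImm T B := by
  choose b hxb hb using h
  let W : T → (Spec (CommRingCat.of B)).Opens := fun x => PrimeSpectrum.basicOpen (⟨b x.1 x.2, (hb x.1 x.2).1⟩ : B)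
  have hpre : ∀ x : T, mor T B.subtype ⁻¹ᵁ (W x) = T.ι ⁻¹ᵁ (X.basicOpen (b x.1 x.2)) := fun x =>
    mor_preimage_basicOpen B.subtype _
  have himg : ∀ x : T, T.ι ''ᵁ (mor T B.subtype ⁻¹ᵁ (W x)) = X.basicOpen (b x.1 x.2) := by
    intro x
    rw [hpre, T.ι.image_preimage_eq_opensRange_inf, Scheme.Opens.opensRange_ι]
    exact inf_eq_right.2 (X.basicOpen_le _)
  refine Groth.Agent.Ega2.ImmCrit.isImmersion_of_affine_family (mor T B.subtype) W (fun x => ?_) (fun x => ?_) ?_ (fun x => ?_)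
  · exact IsAffineOpen.Spec_basicOpen _
  · rw [hpre]
    exact (hb x.1 x.2).2.1.preimage_of_isOpenImmersion _ (by
      rw [Scheme.Opens.opensRange_ι]; exact X.basicOpen_le _)
  · rw [eq_top_iff]
    rintro x -
    refine TopologicalSpace.Opens.mem_iSup.2 ⟨x, ?_⟩
    rw [hpre]
    exact hxb x.1 x.2
  · -- surjectivity
    intro g'
    let β : B := ⟨b x.1 x.2, (hb x.1 x.2).1⟩
    have hle : T.ι ''ᵁ (mor T B.subtype ⁻¹ᵁ (W x)) ≤ T := (himg x).le.trans (X.basicOpen_le _)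
    obtain ⟨n, c, hc, hcg⟩ := (hb x.1 x.2).2.2 (ores (himg x).ge (show Γ(X, T.ι ''ᵁ (mor T B.subtype ⁻¹ᵁ (W x))) from g'))
    obtain ⟨v, hv⟩ := isUnit_sc β
    refine ⟨sc B (W x) ⟨c, hc⟩ * ((v⁻¹ : _ˣ) : Γ(Spec (CommRingCat.of B), W x)) ^ n, ?_⟩
    have h1 : (mor T B.subtype).app (W x) (sc B (W x) ⟨c, hc⟩) =
        (mor T B.subtype).app (W x) (sc B (W x) β) ^ n * g' := by
      rw [mor_app B.subtype (W x) ⟨c, hc⟩ hle, mor_app B.subtype (W x) β hle]
      change ores hle c = ores hle (b x.1 x.2) ^ n * (show Γ(X, T.ι ''ᵁ (mor T B.subtype ⁻¹ᵁ (W x))) from g')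
      apply ores_injective_of_eq (himg x).symm
      rw [map_mul, map_pow, ores_ores, ores_ores, ← hcg]
    have h2 : (mor T B.subtype).app (W x) (sc B (W x) β) *
        (mor T B.subtype).app (W x) ((v⁻¹ : _ˣ) : Γ(Spec (CommRingCat.of B), W x)) = 1 := by
      rw [← map_mul, ← hv, Units.mul_inv, map_one]
    rw [map_mul, map_pow, h1]
    calc _ = ((mor T B.subtype).app (W x) (sc B (W x) β) *
        (mor T B.subtype).app (W x) ((v⁻¹ : _ˣ) : Γ(Spec (CommRingCat.of B), W x))) ^ n * g' := by ring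
      _ = g' := by rw [h2, one_pow, one_mul]

theorem exists_sc {R : Type u} [CommRing R] (b : R) (z : Γ(Spec (CommRingCat.of R), PrimeSpectrum.basicOpen b)) :
    ∃ (n : ℕ) (c : R), sc R _ c = sc R _ b ^ n * z := by
  have h1 : (Spec (CommRingCat.of R)).basicOpen ((Scheme.ΓSpecIso (CommRingCat.of R)).inv b) =
      PrimeSpectrum.basicOpen b := basicOpen_eq_of_affine (R := CommRingCat.of R) b
  obtain ⟨n, a, ha⟩ := K43.VADef.exists_ores_eq (isAffineOpen_top (Spec (CommRingCat.of R)))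
    ((Scheme.ΓSpecIso (CommRingCat.of R)).inv b) (ores h1.le z)
  obtain ⟨c, rfl⟩ : ∃ c, (Scheme.ΓSpecIso (CommRingCat.of R)).inv c = a :=
    (ConcreteCategory.bijective_of_isIso (Scheme.ΓSpecIso (CommRingCat.of R)).inv).surjective a
  have hsc : ∀ d : R, sc R (PrimeSpectrum.basicOpen b) d =
      ores le_top ((Scheme.ΓSpecIso (CommRingCat.of R)).inv d) := fun d => rfl
  refine ⟨n, c, ?_⟩
  have h2 := congrArg (ores h1.ge) ha
  rw [map_mul, map_pow, ores_ores, ores_ores, ores_ores, ores_refl] at h2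
  rw [hsc, hsc]
  exact h2

theorem exists_good {T : X.Opens} {B : Subring Γ(X, T)} (h : HImm T B) {x : X} (hx : x ∈ T) :
    ∃ b, x ∈ X.basicOpen b ∧ Good B b := by
  have hr : IsImmersion (mor T B.subtype) := h
  let r := mor T B.subtype
  have hfac : r.liftCoborder ≫ r.coborderRange.ι = r := r.liftCoborder_ι
  obtain ⟨_, ⟨_, ⟨β, rfl⟩, rfl⟩, hxβ, hβ⟩ := PrimeSpectrum.isBasis_basic_opens.exists_subset_of_mem_open
    (show r ⟨x, hx⟩ ∈ (r.coborderRange : Set _) from by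
      have h2 : r.coborderRange.ι (r.liftCoborder ⟨x, hx⟩) = r ⟨x, hx⟩ := by
        rw [← Scheme.Hom.comp_apply, hfac]
      rw [← h2]
      exact (r.liftCoborder ⟨x, hx⟩).2) r.coborderRange.2
  let D : (Spec (CommRingCat.of B)).Opens := PrimeSpectrum.basicOpen β
  have hDO : D ≤ r.coborderRange := hβ
  have hD : IsAffineOpen D := IsAffineOpen.Spec_basicOpen _
  have hD' : IsAffineOpen (r.coborderRange.ι ⁻¹ᵁ D) := hD.preimage_of_isOpenImmersion _ (by
    rw [Scheme.Opens.opensRange_ι]; exact hDO)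
  have hpre : r ⁻¹ᵁ D = T.ι ⁻¹ᵁ (X.basicOpen (β : Γ(X, T))) := mor_preimage_basicOpen B.subtype β
  have himg : T.ι ''ᵁ (r ⁻¹ᵁ D) = X.basicOpen (β : Γ(X, T)) := by
    rw [hpre, T.ι.image_preimage_eq_opensRange_inf, Scheme.Opens.opensRange_ι]
    exact inf_eq_right.2 (X.basicOpen_le _)
  have haff : IsAffineOpen (r ⁻¹ᵁ D) := by
    have h1 : r ⁻¹ᵁ D = r.liftCoborder ⁻¹ᵁ (r.coborderRange.ι ⁻¹ᵁ D) := by
      rw [← Scheme.Hom.comp_preimage, hfac]
    rw [h1]
    exact hD'.preimage _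
  have hsurj : Function.Surjective (r.app D) := by
    have h2 : Function.Surjective ((r.liftCoborder ≫ r.coborderRange.ι).app D) := by
      rw [Scheme.Hom.comp_app]
      have h3 : Function.Surjective (r.coborderRange.ι.app D) :=
        (Groth.Agent.Ega2.Ample.app_bijective r.coborderRange.ι (V := D) (by
          rw [Scheme.Opens.opensRange_ι]; exact hDO)).surjective
      have h4 : Function.Surjective (r.liftCoborder.app (r.coborderRange.ι ⁻¹ᵁ D)) :=
        r.liftCoborder.app_surjective _ hD'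
      exact h4.comp h3
    rw [hfac] at h2
    exact h2
  refine ⟨β, ?_, β.2, ?_, fun g => ?_⟩
  · have h3 : (⟨x, hx⟩ : T) ∈ r ⁻¹ᵁ D := hxβ
    rw [hpre] at h3
    exact h3
  · rw [← himg]
    exact haff.image_of_isOpenImmersion _
  · obtain ⟨z, hz⟩ := hsurj (show Γ(T, r ⁻¹ᵁ D) from (ores himg.le g : Γ(X, T.ι ''ᵁ (r ⁻¹ᵁ D))))
    obtain ⟨n, c, hc⟩ := exists_sc β z
    have hle : T.ι ''ᵁ (r ⁻¹ᵁ D) ≤ T := himg.le.trans (X.basicOpen_le _)
    refine ⟨n, c, c.2, ?_⟩
    have h5 := congrArg (r.app D) hc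
    rw [map_mul, map_pow, hz] at h5
    have h6 := mor_app B.subtype D c hle
    have h7 := mor_app B.subtype D β hle
    apply ores_injective_of_eq himg
    rw [map_mul, map_pow, ores_ores, ores_ores]
    refine h6.symm.trans (h5.trans ?_)
    refine congrArg (fun t => t ^ n * (show Γ(T, r ⁻¹ᵁ D) from (ores himg.le g : Γ(X, T.ι ''ᵁ (r ⁻¹ᵁ D))))) ?_
    exact h7

theorem himm_iff {T : X.Opens} {B : Subring Γ(X, T)} : HImm T B ↔ ∀ x ∈ T, ∃ b, x ∈ X.basicOpen b ∧ Good B b :=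
  ⟨fun h _ hx => exists_good h hx, himm_of_good⟩

theorem exists_closure_eq_top {R A : Type u} [CommRing R] [CommRing A] (φ : R →+* A) (h : φ.FiniteType) :
    ∃ S : Set A, S.Finite ∧ Subring.closure (Set.range φ ∪ S) = ⊤ := by
  algebraize [φ]
  obtain ⟨S, hS⟩ := (inferInstance : Algebra.FiniteType R A).out
  refine ⟨S, S.finite_toSet, ?_⟩
  rw [eq_top_iff]
  intro a _
  have ha : a ∈ Algebra.adjoin R (S : Set A) := by rw [hS]; trivial
  exact Algebra.mem_adjoin_iff.1 ha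

/-- The functions that become elements of `B` after multiplication by a power of `b`. -/
theorem good_of_closure {T : X.Opens} {B : Subring Γ(X, T)} {b : Γ(X, T)} (hb : b ∈ B) (haff : IsAffineOpen (X.basicOpen b))
    {S : Set Γ(X, X.basicOpen b)} (hS : Subring.closure S = ⊤) (h : ∀ g ∈ S, ∃ (n : ℕ), ∃ c ∈ B,
      ores (X.basicOpen_le b) c = ores (X.basicOpen_le b) b ^ n * g) : Good B b := by
  refine ⟨hb, haff, fun g => ?_⟩
  have hg : g ∈ Subring.closure S := by rw [hS]; trivial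
  induction hg using Subring.closure_induction with
  | mem x hx => exact h x hx
  | zero => exact ⟨0, 0, zero_mem _, by simp⟩
  | one => exact ⟨0, 1, one_mem _, by simp⟩
  | add x y _ _ hx hy =>
    obtain ⟨n, c, hc, hcx⟩ := hx
    obtain ⟨m, d, hd, hdy⟩ := hy
    refine ⟨n + m, b ^ m * c + b ^ n * d, add_mem (mul_mem (pow_mem hb _) hc) (mul_mem (pow_mem hb _) hd), ?_⟩
    rw [map_add, map_mul, map_mul, map_pow, map_pow, hcx, hdy]
    ring
  | neg x _ hx =>
    obtain ⟨n, c, hc, hcx⟩ := hx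
    exact ⟨n, -c, neg_mem hc, by rw [map_neg, hcx]; ring⟩
  | mul x y _ _ hx hy =>
    obtain ⟨n, c, hc, hcx⟩ := hx
    obtain ⟨m, d, hd, hdy⟩ := hy
    refine ⟨n + m, c * d, mul_mem hc hd, ?_⟩
    rw [map_mul, hcx, hdy]
    ring

/-- **Finiteness**: a finite subset of `B` is enough, over the functions of `V`. -/
theorem _root_.K43.HomImm.HImm.exists_finite {Y : Scheme.{u}} {f : X ⟶ Y} [LocallyOfFiniteType f] {V : Y.Opens}
    (hV : IsAffineOpen V) {T : X.Opens} (hT : IsCompact (T : Set X)) (hTV : T ≤ f ⁻¹ᵁ V) {B : Subring Γ(X, T)}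
    (h : HImm T B) : ∃ S : Set Γ(X, T), S.Finite ∧ S ⊆ B ∧
      ∀ B' : Subring Γ(X, T), (∀ a, (f.appLE V T hTV).hom a ∈ B') → S ⊆ B' → HImm T B' := by
  classical
  choose b hxb hb using fun x : T => exists_good h x.2
  obtain ⟨I, hI⟩ := hT.elim_finite_subcover (fun x : T => (X.basicOpen (b x) : Set X)) (fun x => (X.basicOpen (b x)).2)
    (fun x hx => Set.mem_iUnion.2 ⟨⟨x, hx⟩, hxb ⟨x, hx⟩⟩)
  have hle : ∀ x : T, X.basicOpen (b x) ≤ f ⁻¹ᵁ V := fun x => (X.basicOpen_le _).trans hTV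
  have hft : ∀ x : T, (f.appLE V (X.basicOpen (b x)) (hle x)).hom.FiniteType := fun x =>
    f.finiteType_appLE hV (hb x).2.1 (hle x)
  choose G hGfin hG using fun x : T => exists_closure_eq_top _ (hft x)
  choose n c hc hcg using fun (x : T) (g : Γ(X, X.basicOpen (b x))) => (hb x).2.2 g
  refine ⟨⋃ x ∈ I, ({b x} ∪ (c x) '' (G x)), ?_, ?_, ?_⟩
  · exact Set.Finite.biUnion I.finite_toSet fun x _ => (Set.finite_singleton _).union ((hGfin x).image _)
  · intro z hz
    obtain ⟨x, hz⟩ := Set.mem_iUnion.1 hz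
    obtain ⟨hxI, hz⟩ := Set.mem_iUnion.1 hz
    rcases hz with rfl | ⟨g, -, rfl⟩
    · exact (hb x).1
    · exact hc x g
  · intro B' hB' hS
    refine himm_of_good fun x hx => ?_
    obtain ⟨i, hi⟩ := Set.mem_iUnion.1 (hI hx)
    obtain ⟨hiI, hxi⟩ := Set.mem_iUnion.1 hi
    have hsub : ({b i} ∪ (c i) '' (G i) : Set Γ(X, T)) ⊆ B' := fun z hz =>
      hS (Set.mem_iUnion.2 ⟨i, Set.mem_iUnion.2 ⟨hiI, hz⟩⟩)
    refine ⟨b i, hxi, good_of_closure (hsub (Or.inl rfl)) (hb i).2.1 (hG i) ?_⟩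
    rintro g (⟨a, rfl⟩ | hg)
    · refine ⟨0, (f.appLE V T hTV).hom a, hB' a, ?_⟩
      rw [pow_zero, one_mul]
      have : f.appLE V T hTV ≫ X.presheaf.map (homOfLE (X.basicOpen_le (b i))).op = f.appLE V _ (hle i) :=
        Scheme.Hom.appLE_map _ _ _
      exact congr(($this).hom a)
    · exact ⟨n i g, c i g, hsub (Or.inr ⟨g, hg, rfl⟩), hcg i g⟩

end K42.HImmFin
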