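import Groth.Agent.EGA2.K41.RColim
import Groth.Agent.EGA2.K42.HImmFin

/-!
# Finiteness of the data defining the immersion `r_{L,ψ}`, for `q` of finite type

`exists_finite`: over an affine `U`, a family `Fam u U` can be replaced by finitely many elements of one degree `N`
(any multiple of some `N₀`), in the sense that every graded `v : 𝒯 ⟶ 𝒮` for which these elements lift has a family.
-/

set_option autoImplicit false
universe u
open CategoryTheory CategoryTheory.Limits AlgebraicGeometry TopologicalSpace Opposite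

namespace K42.FamFin

open K41.LineAlg K41.LineRing K41.NV K41.PLine K41.RPhi K41.RComp K41.RImm K42.DomQ K42.DomMap

variable {X Y : Scheme.{u}} {q : X ⟶ Y} {𝒮 : RelProj.QCGrAlg Y} {ℬ : RelProj.QCGrAlg X}

/-- Functions `f` on `W` with `f u(t)^m = u(s')`, `s'` of degree `m N`, `m > 0`. -/
def Pr (u : RelProj.QGrHom q 𝒮 ℬ) {U : Y.Opens} (hU : IsAffineOpen U) (N : ℕ) (t : 𝒮.presheaf.obj (op U)) (W : X.Opens)
    (hW : W ≤ q ⁻¹ᵁ U) (f : Γ(X, W)) : Prop :=
  ∃ (m : ℕ) (_ : 0 < m) (s' : 𝒮.presheaf.obj (op U)) (_ : s' ∈ 𝒮.deg U hU (m * N)),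
    (ℬ.str.app (op W)).hom f * ((u.appLE U W hW).hom t) ^ m = (u.appLE U W hW).hom s'

theorem pr_of_closure (u : RelProj.QGrHom q 𝒮 ℬ) {U : Y.Opens} (hU : IsAffineOpen U) {N : ℕ} {t : 𝒮.presheaf.obj (op U)}
    (ht : t ∈ 𝒮.deg U hU N) {W : X.Opens} (hW : W ≤ q ⁻¹ᵁ U) {G : Set Γ(X, W)}
    (hG : Subring.closure (Set.range (q.appLE U W hW).hom ∪ G) = ⊤) (h : ∀ g ∈ G, Pr u hU N t W hW g) (f : Γ(X, W)) :
    Pr u hU N t W hW f := by
  have hf : f ∈ Subring.closure (Set.range (q.appLE U W hW).hom ∪ G) := by rw [hG]; trivial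
  induction hf using Subring.closure_induction with
  | mem x hx =>
    rcases hx with ⟨c, rfl⟩ | hx
    · refine ⟨1, one_pos, (𝒮.str.app (op U)).hom c * t, ?_, ?_⟩
      · have := SetLike.mul_mem_graded (𝒮.str_mem U hU c) ht
        rwa [zero_add, ← one_mul N] at this
      · have h1 := congr(($(u.str_appLE U W hW)).hom c)
        rw [map_mul, pow_one]
        congr 1
        exact h1.symm
    · exact h x hx
  | zero => exact ⟨1, one_pos, 0, zero_mem _, by simp⟩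
  | one => exact ⟨1, one_pos, t, by rwa [one_mul], by simp⟩
  | add x y _ _ hx hy =>
    obtain ⟨m, hm, s, hs, e⟩ := hx
    obtain ⟨m', hm', s', hs', e'⟩ := hy
    refine ⟨m + m', by omega, s * t ^ m' + s' * t ^ m, ?_, ?_⟩
    · refine add_mem ?_ ?_
      · have := SetLike.mul_mem_graded hs (SetLike.pow_mem_graded m' ht)
        rwa [smul_eq_mul, ← add_mul] at this
      · have := SetLike.mul_mem_graded hs' (SetLike.pow_mem_graded m ht)
        rwa [smul_eq_mul, ← add_mul, add_comm m' m] at this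
    · rw [map_add, map_add, map_mul, map_mul, map_pow, map_pow, ← e, ← e']
      ring
  | neg x _ hx =>
    obtain ⟨m, hm, s, hs, e⟩ := hx
    exact ⟨m, hm, -s, neg_mem hs, by rw [map_neg, map_neg, ← e]; ring⟩
  | mul x y _ _ hx hy =>
    obtain ⟨m, hm, s, hs, e⟩ := hx
    obtain ⟨m', hm', s', hs', e'⟩ := hy
    refine ⟨m + m', by omega, s * s', ?_, ?_⟩
    · have := SetLike.mul_mem_graded hs hs'
      rwa [← add_mul] at this
    · rw [map_mul, map_mul, ← e, ← e']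
      ring

variable (u : RelProj.QGrHom q 𝒮 ℬ)

theorem nvs_pow (hB : IsLineAlg ℬ) {U : Y.Opens} (hU : IsAffineOpen U) {d : ℕ} {s : 𝒮.presheaf.obj (op U)}
    (hs : s ∈ 𝒮.deg U hU d) {n : ℕ} (hn : 0 < n) : nvs u U (s ^ n) (n * d) = nvs u U s d := by
  rw [nvs, nvs, us_pow, nv_pow hB (isHom_us u hU hs) hn]

/-- **Finiteness of the data** for `q` locally of finite type and `q⁻¹ U` quasi-compact. -/
theorem exists_finite [LocallyOfFiniteType q] (hB : IsLineAlg ℬ) {U : Y.Opens} {hU : IsAffineOpen U}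
    (hc : IsCompact ((q ⁻¹ᵁ U : X.Opens) : Set X)) {ι : Type u} {n : ι → ℕ} {s : ι → 𝒮.presheaf.obj (op U)}
    (hF : Fam u U hU n s) : ∃ (N₀ : ℕ) (_ : 0 < N₀), ∀ N : ℕ, 0 < N → N₀ ∣ N →
      ∃ F : Set (𝒮.presheaf.obj (op U)), F.Finite ∧ (∀ x ∈ F, x ∈ 𝒮.deg U hU N) ∧
        ∀ (𝒯 : RelProj.QCGrAlg Y) (v : 𝒯.toQCAlg ⟶ 𝒮.toQCAlg) (_ : RelProj.IsGradedHom v)
          (u' : RelProj.QGrHom q 𝒯 ℬ) (_ : ∀ U : Y.Opens, u'.app U = v.hom.app (op U) ≫ u.app U),
          (∀ x ∈ F, ∃ y ∈ 𝒯.deg U hU N, (v.hom.app (op U)).hom y = x) →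
            ∃ (κ : Type u) (t : κ → 𝒯.presheaf.obj (op U)), Fam u' U hU (fun _ => N) t := by
  classical
  -- a finite subfamily
  obtain ⟨I, hI⟩ := hc.elim_finite_subcover (fun a => ((nvs u U (s a) (n a) : X.Opens) : Set X))
    (fun a => (nvs u U (s a) (n a)).2) (fun x hx => by
      obtain ⟨a, ha⟩ := hF.cov x hx
      exact Set.mem_iUnion.2 ⟨a, ha⟩)
  -- finitely many generators
  have hft : ∀ a, (q.appLE U _ (nvs_le u U (s a) (n a))).hom.FiniteType := fun a =>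
    q.finiteType_appLE hU (hF.aff a) _
  choose G hGfin hG using fun a => HImmFin.exists_closure_eq_top _ (hft a)
  choose m hm s' hs' he using fun a => hF.surj a
  have hbd : ∀ a, ∃ μ : ℕ, 0 < μ ∧ ∀ g ∈ G a, m a g ≤ μ := by
    intro a
    obtain ⟨μ, hμ⟩ := ((hGfin a).image (m a)).bddAbove
    exact ⟨μ + 1, Nat.succ_pos _, fun g hg => (hμ ⟨g, hg, rfl⟩).trans (Nat.le_succ _)⟩
  choose μ hμpos hμ using hbd
  refine ⟨∏ a ∈ I, n a * μ a, Finset.prod_pos fun a _ => Nat.mul_pos (hF.pos a) (hμpos a), fun N hN hdvd => ?_⟩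
  have hk : ∀ a : I, ∃ k, N = (μ a * k) * n a ∧ 0 < k := by
    intro a
    obtain ⟨k, hk⟩ := (Finset.dvd_prod_of_mem (fun a => n a * μ a) a.2).trans hdvd
    refine ⟨k, by rw [hk]; ring, ?_⟩
    rcases Nat.eq_zero_or_pos k with rfl | h
    · rw [hk, mul_zero] at hN; exact absurd hN (lt_irrefl _)
    · exact h
  choose k hk hkpos using hk
  let M : I → ℕ := fun a => μ a * k a
  have hMpos : ∀ a, 0 < M a := fun a => Nat.mul_pos (hμpos _) (hkpos _)
  have hM : ∀ a : I, ∀ g ∈ G a, m a g ≤ M a := fun a g hg =>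
    (hμ a g hg).trans (Nat.le_mul_of_pos_right _ (hkpos a))
  refine ⟨⋃ a : I, ({(s a) ^ (M a)} ∪ (fun g => s' a g * (s a) ^ (M a - m a g)) '' (G a)), ?_, ?_, ?_⟩
  · exact Set.finite_iUnion fun a => (Set.finite_singleton _).union ((hGfin a).image _)
  · intro x hx
    obtain ⟨a, hx⟩ := Set.mem_iUnion.1 hx
    rcases hx with rfl | ⟨g, hg, rfl⟩
    · have := SetLike.pow_mem_graded (M a) (hF.mem a)
      rwa [smul_eq_mul, ← hk a] at this
    · have := SetLike.mul_mem_graded (hs' a g) (SetLike.pow_mem_graded (M a - m a g) (hF.mem a))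
      rwa [smul_eq_mul, ← add_mul, Nat.add_sub_cancel' (hM a g hg), ← hk a] at this
  · intro 𝒯 v hv u' hu' hlift
    have h1 : ∀ a : I, ∃ y ∈ 𝒯.deg U hU N, (v.hom.app (op U)).hom y = (s a) ^ (M a) := fun a =>
      hlift _ (Set.mem_iUnion.2 ⟨a, Or.inl rfl⟩)
    have h2 : ∀ (a : I), ∀ g ∈ G a, ∃ y ∈ 𝒯.deg U hU N, (v.hom.app (op U)).hom y = s' a g * (s a) ^ (M a - m a g) :=
      fun a g hg => hlift _ (Set.mem_iUnion.2 ⟨a, Or.inr ⟨g, hg, rfl⟩⟩)
    choose t ht hts using h1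
    have hnv : ∀ a : I, nvs u' U (t a) N = nvs u U (s a) (n a) := by
      intro a
      rw [nvs_comp u v u' hu', hts a]
      conv_lhs => rw [hk a]
      exact nvs_pow u hB hU (hF.mem a) (hMpos a)
    refine ⟨I, t, fun _ => hN, ht, fun x hx => ?_, fun a => ?_, fun a => ?_⟩
    · obtain ⟨a, ha⟩ := Set.mem_iUnion.1 (hI hx)
      obtain ⟨haI, hxa⟩ := Set.mem_iUnion.1 ha
      exact ⟨⟨a, haI⟩, by rw [hnv]; exact hxa⟩
    · rw [hnv]; exact hF.aff a
    · have key : ∀ (W : X.Opens) (_ : W = nvs u U (s a) (n a)) (hW : W ≤ q ⁻¹ᵁ U) (f : Γ(X, W)), Pr u' hU N (t a) W hW f := by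
        rintro W rfl hW f
        refine pr_of_closure u' hU (ht a) hW (hG a) (fun g hg => ?_) f
        obtain ⟨y, hy, hyx⟩ := h2 a g hg
        refine ⟨1, one_pos, y, by rwa [one_mul], ?_⟩
        rw [appLE_comp u v u' hu', appLE_comp u v u' hu', hts, hyx, map_mul, ← he a g, pow_one, map_pow, map_pow,
          mul_assoc, ← pow_add, Nat.add_sub_cancel' (hM a g hg)]
      exact key _ (hnv a) (nvs_le u' U (t a) N)

end K42.FamFin
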