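import Groth.Agent.EGA2.K43.HomImm
import Mathlib.AlgebraicGeometry.Morphisms.Immersion

/-!
# Base change of the immersion condition `HImm`

`HImm.baseChange`: for a cartesian square `X' = X ×_Y Y'`, affine opens `U ⊆ Y`, `V' ⊆ g⁻¹ U`, an open `W ⊆ f⁻¹ U` and a
subring `B ⊆ Γ(X, W)` containing the functions of `U` with `W ⟶ Spec B` an immersion: `W' = g'⁻¹ W ∩ f'⁻¹ V'` immerses in
`Spec B'` for every subring `B'` containing the image of `B` and the functions of `V'`.
-/

set_option autoImplicit false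
universe u
open CategoryTheory CategoryTheory.Limits AlgebraicGeometry TopologicalSpace Opposite
open scoped TensorProduct

namespace K42.HImmBC

open Groth.Agent.Fdesc.LocGen K43.HomImm

theorem resLE_mor {X Y : Scheme.{u}} (f : X ⟶ Y) {U : Y.Opens} {W : X.Opens} (e : W ≤ f ⁻¹ᵁ U) {R : Type u} [CommRing R]
    (ρ : R →+* Γ(Y, U)) : f.resLE U W e ≫ mor U ρ = mor W ((f.appLE U W e).hom.comp ρ) := by
  rw [mor, mor, ← Category.assoc]
  have h := Scheme.Opens.toSpecΓ_SpecMap_appLE f U W e
  rw [← h, Category.assoc, ← Spec.map_comp]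
  rfl

theorem isIso_mor_id {X : Scheme.{u}} {U : X.Opens} (hU : IsAffineOpen U) : IsIso (mor U (RingHom.id Γ(X, U))) := by
  have : IsAffine U := hU
  have : IsIso U.toSpecΓ := by
    rw [Scheme.Opens.toSpecΓ]; infer_instance
  have h2 : mor U (RingHom.id Γ(X, U)) = U.toSpecΓ := by
    rw [mor]
    exact (congrArg _ (Spec.map_id _)).trans (Category.comp_id _)
  rw [h2]
  infer_instance

/-- **Base change** for `HImm`. -/
theorem _root_.K43.HomImm.HImm.baseChange {X Y X' Y' : Scheme.{u}} {f : X ⟶ Y} {g : Y' ⟶ Y} {g' : X' ⟶ X} {f' : X' ⟶ Y'}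
    (hsq : IsPullback g' f' f g) {U : Y.Opens} (hU : IsAffineOpen U) {V' : Y'.Opens} (hV' : IsAffineOpen V')
    (hgU : V' ≤ g ⁻¹ᵁ U) {W : X.Opens} (hWU : W ≤ f ⁻¹ᵁ U) {B : Subring Γ(X, W)}
    (hB : ∀ a, (f.appLE U W hWU).hom a ∈ B) (h : HImm W B) {W' : X'.Opens} (hW' : W' = g' ⁻¹ᵁ W ⊓ f' ⁻¹ᵁ V')
    {B' : Subring Γ(X', W')} (h1 : ∀ b ∈ B, (g'.appLE W W' (hW'.le.trans inf_le_left)).hom b ∈ B')
    (h2 : ∀ a, (f'.appLE V' W' (hW'.le.trans inf_le_right)).hom a ∈ B') : HImm W' B' := by
  have e1 : W' ≤ g' ⁻¹ᵁ W := hW'.le.trans inf_le_left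
  have e2 : W' ≤ f' ⁻¹ᵁ V' := hW'.le.trans inf_le_right
  have e3 : W' ≤ (f' ≫ g) ⁻¹ᵁ U := e2.trans (f'.preimage_mono hgU)
  have hpb := Scheme.Hom.isPullback_resLE hsq (US := U) (UT := V') (UX := W) hgU hWU (UY := W') hW'
  -- algebra structures
  let A := Γ(Y, U)
  let A' := Γ(Y', V')
  let α : A →+* B := (f.appLE U W hWU).hom.codRestrict B hB
  let γ : A →+* A' := (g.appLE U V' hgU).hom
  let _ : Algebra A B := α.toAlgebra
  let _ : Algebra A A' := γ.toAlgebra
  have hcomm : (g'.appLE W W' e1).hom.comp (f.appLE U W hWU).hom =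
      (f'.appLE V' W' e2).hom.comp (g.appLE U V' hgU).hom := by
    have h3 : f.appLE U W hWU ≫ g'.appLE W W' e1 = g.appLE U V' hgU ≫ f'.appLE V' W' e2 := by
      rw [Scheme.Hom.appLE_comp_appLE, Scheme.Hom.appLE_comp_appLE]
      simp only [hsq.w]
    exact congrArg CommRingCat.Hom.hom h3
  let ρB : B →+* Γ(X', W') := (g'.appLE W W' e1).hom.comp B.subtype
  have hpo := CommRingCat.isPushout_tensorProduct A B A'
  let ρ : CommRingCat.of (TensorProduct A B A') ⟶ Γ(X', W') :=
    hpo.desc (CommRingCat.ofHom ρB) (f'.appLE V' W' e2) (CommRingCat.hom_ext hcomm)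
  have hρl : ρ.hom.comp Algebra.TensorProduct.includeLeftRingHom = ρB :=
    congrArg CommRingCat.Hom.hom (hpo.inl_desc _ _ _)
  have hρr : ρ.hom.comp (Algebra.TensorProduct.includeRight : A' →ₐ[A] TensorProduct A B A').toRingHom =
      (f'.appLE V' W' e2).hom := congrArg CommRingCat.Hom.hom (hpo.inr_desc _ _ _)
  refine HImm.of_hom ρ.hom ?_ ?_
  · -- the immersion
    have hiU : IsIso (mor U (RingHom.id Γ(Y, U))) := isIso_mor_id hU
    have hiV : IsIso (mor V' (RingHom.id Γ(Y', V'))) := isIso_mor_id hV'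
    have hbot : IsPullback (g.resLE U V' hgU) (mor V' (RingHom.id Γ(Y', V'))) (mor U (RingHom.id Γ(Y, U)))
        (Spec.map (CommRingCat.ofHom γ)) := by
      refine IsPullback.of_vert_isIso ⟨?_⟩
      rw [resLE_mor, mor_comp]
      rfl
    have hout := hpb.paste_vert hbot
    rw [resLE_mor, resLE_mor] at hout
    have hsp := isPullback_SpecMap_of_isPushout _ _ _ _ hpo
    have hout' : IsPullback (g'.resLE W W' e1)
        (mor W' ρ.hom ≫ Spec.map (CommRingCat.ofHom (Algebra.TensorProduct.includeRight : A' →ₐ[A] TensorProduct A B A').toRingHom))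
        (mor W B.subtype ≫ Spec.map (CommRingCat.ofHom α)) (Spec.map (CommRingCat.ofHom γ)) := by
      rw [mor_comp, mor_comp, hρr]
      exact hout
    have htop := IsPullback.of_bot hout' (by
      rw [mor_comp, resLE_mor, hρl]) hsp
    have himm : IsImmersion (mor W B.subtype) := h
    exact MorphismProperty.of_isPullback htop himm
  · intro x
    induction x using TensorProduct.induction_on with
    | zero => rw [map_zero]; exact zero_mem _
    | add x y hx hy => rw [map_add]; exact add_mem hx hy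
    | tmul b a =>
      have h4 : b ⊗ₜ[A] a = (Algebra.TensorProduct.includeLeftRingHom b : TensorProduct A B A') *
          (Algebra.TensorProduct.includeRight : A' →ₐ[A] TensorProduct A B A').toRingHom a := by
        simp
      have h5 : ρ.hom (Algebra.TensorProduct.includeLeftRingHom b) = ρB b := congr($hρl b)
      have h6 : ρ.hom ((Algebra.TensorProduct.includeRight : A' →ₐ[A] TensorProduct A B A').toRingHom a) =
        (f'.appLE V' W' e2).hom a := congr($hρr a)
      rw [h4, map_mul, h5, h6]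
      exact mul_mem (h1 b b.2) (h2 a)

end K42.HImmBC
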