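import Groth.Agent.EGA2.K42.HImmFin
import Groth.Agent.EGA2.K42.HImmBC
import Mathlib.AlgebraicGeometry.AffineSpace

/-!
# Immersions into affine space over a base and composition

`T ⊆ f⁻¹ V` open in `X`, `v : ι → Γ(X, T)` with `T ⟶ V × 𝔸^ι` an immersion (`V` affine), `N ⊆ Y` open and `N ⟶ Spec C` an
immersion; then `T ∩ f⁻¹ N ⟶ Spec C[x_i]` is an immersion (`himm_comp`).
-/

set_option autoImplicit false
universe u
open CategoryTheory CategoryTheory.Limits AlgebraicGeometry TopologicalSpace Opposite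

namespace K42.VecImm

open Groth.Agent.Fdesc.LocGen K43.HomImm K42.HImmBC

variable {X Y S : Scheme.{u}} {n : Type u}

theorem mor_appTop {W : X.Opens} {R : Type u} [CommRing R] (ρ : R →+* Γ(X, W)) (c : R) :
    (mor W ρ).appTop ((Scheme.ΓSpecIso (CommRingCat.of R)).inv c) = W.topIso.inv (ρ c) := by
  have h1 : (Scheme.ΓSpecIso (CommRingCat.of R)).inv ≫ (mor W ρ).appTop = CommRingCat.ofHom ρ ≫ W.topIso.inv := by
    rw [mor, Scheme.Hom.comp_appTop, ← Scheme.ΓSpecIso_inv_naturality_assoc, Scheme.Opens.toSpecΓ_appTop,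
      Iso.inv_hom_id_assoc]
  exact congr(($h1).hom c)

/-- A vector of functions on an open, as a vector of global functions. -/
noncomputable def vt {W : X.Opens} (v : n → Γ(X, W)) : n → Γ(W, ⊤) := fun i => W.topIso.inv (v i)

theorem homOfVector_mor {W : X.Opens} {R : Type u} [CommRing R] (ρ : R →+* Γ(X, W)) (v : n → Γ(X, W)) :
    AffineSpace.homOfVector (mor W ρ) (vt v) =
      mor W (MvPolynomial.eval₂Hom ρ v) ≫ (AffineSpace.SpecIso n (CommRingCat.of R)).inv := by
  apply AffineSpace.hom_ext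
  · rw [AffineSpace.homOfVector_over, Category.assoc, AffineSpace.SpecIso_inv_over]
    have h := mor_comp W (MvPolynomial.C : R →+* MvPolynomial n R) (MvPolynomial.eval₂Hom ρ v)
    have h2 : (MvPolynomial.eval₂Hom ρ v).comp (MvPolynomial.C : R →+* MvPolynomial n R) = ρ := by
      ext a; simp
    rw [h2] at h
    exact h.symm
  · intro i
    rw [AffineSpace.homOfVector_appTop_coord, Scheme.Hom.comp_appTop, CommRingCat.comp_apply,
      AffineSpace.SpecIso_inv_appTop_coord]
    have h := mor_appTop (MvPolynomial.eval₂Hom ρ v) (MvPolynomial.X i)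
    refine Eq.trans ?_ h.symm
    simp [vt]

theorem isImmersion_vec_iff {W : X.Opens} {R : Type u} [CommRing R] (ρ : R →+* Γ(X, W)) (v : n → Γ(X, W)) :
    IsImmersion (AffineSpace.homOfVector (mor W ρ) (vt v)) ↔ IsImmersion (mor W (MvPolynomial.eval₂Hom ρ v)) := by
  rw [homOfVector_mor]
  exact MorphismProperty.cancel_right_of_respectsIso _ _ _

theorem homOfVector_comp {T V : Scheme.{u}} (a : T ⟶ V) (c : V ⟶ S) (v : n → Γ(T, ⊤)) :
    AffineSpace.homOfVector a v ≫ AffineSpace.map n c = AffineSpace.homOfVector (a ≫ c) v := by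
  apply AffineSpace.hom_ext
  · rw [Category.assoc, AffineSpace.map_over, AffineSpace.homOfVector_over_assoc, AffineSpace.homOfVector_over]
  · intro i
    rw [Scheme.Hom.comp_appTop, CommRingCat.comp_apply, AffineSpace.map_appTop_coord,
      AffineSpace.homOfVector_appTop_coord, AffineSpace.homOfVector_appTop_coord]

instance isImmersion_map {V : Scheme.{u}} (c : V ⟶ S) [IsImmersion c] : IsImmersion (AffineSpace.map n c) :=
  MorphismProperty.of_isPullback (AffineSpace.isPullback_map c).flip inferInstance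

theorem isImmersion_vec_comp {T V : Scheme.{u}} (a : T ⟶ V) (c : V ⟶ S) [IsImmersion c] (v : n → Γ(T, ⊤))
    (h : IsImmersion (AffineSpace.homOfVector a v)) : IsImmersion (AffineSpace.homOfVector (a ≫ c) v) := by
  rw [← homOfVector_comp]
  infer_instance

theorem isImmersion_vec_of_comp {T V : Scheme.{u}} (a : T ⟶ V) (c : V ⟶ S) (v : n → Γ(T, ⊤))
    (h : IsImmersion (AffineSpace.homOfVector (a ≫ c) v)) : IsImmersion (AffineSpace.homOfVector a v) := by
  rw [← homOfVector_comp] at h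
  exact IsImmersion.of_comp _ (AffineSpace.map n c)

theorem homOfLE_appTop_vt {W W' : X.Opens} (h : W' ≤ W) (v : n → Γ(X, W)) :
    (X.homOfLE h).appTop ∘ vt v = vt (fun i => ores h (v i)) := by
  funext i
  have h1 : W.topIso.inv ≫ (X.homOfLE h).appTop = X.presheaf.map (homOfLE h).op ≫ W'.topIso.inv := by
    have h2 := Scheme.Hom.resLE_app_top (f := 𝟙 X) (U := W) (V := W') h
    rw [Scheme.Hom.resLE_id] at h2
    have h3 : (𝟙 X : X ⟶ X).appLE W W' h = X.presheaf.map (homOfLE h).op := by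
      rw [Scheme.Hom.appLE, Scheme.Hom.id_app]
      exact Category.id_comp _
    rw [h3] at h2
    rw [Scheme.Hom.appTop, h2, Iso.inv_hom_id_assoc]
  exact congr(($h1).hom (v i))

theorem isImmersion_comp {f : X ⟶ Y} {V N : Y.Opens} {T T' : X.Opens} (hTV : T ≤ f ⁻¹ᵁ V) {v : n → Γ(X, T)}
    (h : IsImmersion (mor T (MvPolynomial.eval₂Hom (f.appLE V T hTV).hom v))) (hT : T' ≤ T) (hN : T' ≤ f ⁻¹ᵁ N)
    {C : Type u} [CommRing C] (γ : C →+* Γ(Y, N)) (hγ : IsImmersion (mor N γ)) :
    IsImmersion (mor T' (MvPolynomial.eval₂Hom ((f.appLE N T' hN).hom.comp γ) (fun i => ores hT (v i)))) := by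
  rw [← isImmersion_vec_iff] at h ⊢
  have h0 : mor T (f.appLE V T hTV).hom = f.resLE V T hTV ≫ mor V (RingHom.id Γ(Y, V)) := by
    rw [resLE_mor]; rfl
  rw [h0] at h
  have h2 := isImmersion_vec_of_comp _ _ _ h
  have h3 : IsImmersion (X.homOfLE hT ≫ AffineSpace.homOfVector (f.resLE V T hTV) (vt v)) := inferInstance
  have hle : T' ≤ f ⁻¹ᵁ (V ⊓ N) := le_inf (hT.trans hTV) hN
  rw [AffineSpace.comp_homOfVector, homOfLE_appTop_vt] at h3
  have h4 : X.homOfLE hT ≫ f.resLE V T hTV = f.resLE (V ⊓ N) T' hle ≫ Y.homOfLE inf_le_left := by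
    rw [← cancel_mono V.ι]
    simp
  rw [h4] at h3
  have h5 := isImmersion_vec_of_comp _ _ _ h3
  have h6 := isImmersion_vec_comp _ (Y.homOfLE (inf_le_right : V ⊓ N ≤ N) ≫ mor N γ) _ h5
  have h7 : f.resLE (V ⊓ N) T' hle ≫ Y.homOfLE inf_le_right ≫ mor N γ = mor T' ((f.appLE N T' hN).hom.comp γ) := by
    rw [← resLE_mor, ← Category.assoc]
    congr 1
    rw [← cancel_mono N.ι]
    simp
  rwa [h7] at h6

end K42.VecImm
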